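import Cfsg.Agent.Lib.DerangeIndex.Lin.Symp
import Mathlib.GroupTheory.QuotientGroup.Basic

/-!
The bound in the symplectic-type cases.
-/

set_option autoImplicit false

open MulAction Subgroup
open scoped commutatorElement

namespace CfsgLib.DerangeIndex

variable {M : Type*} [Group M]

theorem small_of_sq {n m w : ℕ} (hw : 2 ≤ w) (hm : m + 1 ≤ w) {s : ℕ} (hs : 2 ≤ s)
    (h : w ^ s ≤ n) : Small n m :=
  Or.inl (le_trans (Nat.pow_le_pow_left hm 2) (le_trans (Nat.pow_le_pow_right (by omega) hs) h))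

namespace SympCtx

variable {s : ℕ} {K0 S H U : Subgroup M} {z : M} (c : SympCtx s K0 S H U z) [Finite M]
  {V : Type*} [AddCommGroup V] [DistribMulAction M V] [Finite V] [Nontrivial V] {p : ℕ}
  (h : Setup V p K0) (hirr : Irred M V)
include c

omit h hirr in
theorem coset_conj {x : M} (hx : x ∈ H) (hxU : x ∉ U) (hxs : x ^ s = 1) {g g' : M}
    (he : (g * x * g⁻¹)⁻¹ * (g' * x * g'⁻¹) ∈ U) :
    ∃ a ∈ zpowers z, g' * x * g'⁻¹ = a * (g * x * g⁻¹) ∧
      ∃ t ∈ H, t * (g * x * g⁻¹) * t⁻¹ = g' * x * g'⁻¹ := by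
  set X := g * x * g⁻¹ with hX
  set X' := g' * x * g'⁻¹ with hX'
  have hXs : ∀ y : M, (y * x * y⁻¹) ^ s = 1 := fun y => by rw [conj_pow, hxs, mul_one, mul_inv_cancel]
  have hcm : Commute X (X⁻¹ * X') := c.central _ he X (c.conj_mem_H hx)
  have h1 : X⁻¹ * X' ∈ zpowers z := by
    refine c.torsion _ he ?_
    have h2 := hcm.mul_pow s
    rw [mul_inv_cancel_left, show X ^ s = 1 from hXs g, show X' ^ s = 1 from hXs g', one_mul] at h2
    exact h2.symm
  have h3 : X' = X⁻¹ * X' * X := by rw [← hcm.eq, mul_inv_cancel_left]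
  obtain ⟨t, ht, htX⟩ := c.exists_conj (c.conj_mem_H hx) (c.conj_not_mem_U hxU) h1
  exact ⟨_, h1, h3, t, ht, htX.trans h3.symm⟩

include h

omit hirr in
theorem centralizer_sup_index_le {x : M} (hx : x ∈ H) (hxU : x ∉ U) (hxs : x ^ s = 1) :
    (centralizer {x} ⊔ K0).index ≤ U.relIndex H := by
  classical
  have hf : ∀ g : M, g * x * g⁻¹ ∈ H := fun g => c.conj_mem_H hx
  have h1 := h.index_sup_le (Y := centralizer {x}) (Set.univ : Set (H ⧸ U.subgroupOf H))
    (Set.toFinite _) (fun g => ((⟨g * x * g⁻¹, hf g⟩ : H) : H ⧸ U.subgroupOf H))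
    (fun g => trivial) ?_
  · rwa [Set.ncard_univ] at h1
  · intro g g' he
    rw [QuotientGroup.eq, mem_subgroupOf] at he
    obtain ⟨-, -, -, t, ht, htx⟩ := c.coset_conj hx hxU hxs (g := g) (g' := g') he
    refine ⟨t, c.S_le (c.HS ht), ?_⟩
    rw [Subgroup.mem_centralizer_singleton_iff]
    calc g'⁻¹ * t * g * x = g'⁻¹ * (t * (g * x * g⁻¹) * t⁻¹) * (t * g) := by group
      _ = g'⁻¹ * (g' * x * g'⁻¹) * (t * g) := by rw [htx]
      _ = x * (g'⁻¹ * t * g) := by group

include hirr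

theorem small_of_inner_odd {x : M} (hx : x ∈ H) (hxU : x ∉ U) (hxs : x ^ s = 1) (hs : 3 ≤ s) :
    Small (Nat.card V) K0.index := by
  obtain ⟨g, hg, hne, hmem⟩ := c.exists_noncentral hx hxU
  obtain ⟨hW, hcard⟩ := c.translates h hirr (c.HS hx) hxs (c.HS hg) hmem hne
    (by rw [commutatorElement_def]; group)
  obtain ⟨⟨u, hu⟩, hu0⟩ := (AddSubgroup.ne_bot_iff_exists_ne_zero).1 hW
  have hW1 : 1 ≤ Nat.card (fixSub V (zpowers x)) := Nat.card_pos
  have h1 := h.relIndex_mul_card_le (Y := centralizer {x}) (X := ⊥) bot_le bot_le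
    (U := fixSub V (zpowers x)) (fun y hy v hv => fixSub_zpowers.2 (by
      rw [smul_smul, ← Subgroup.mem_centralizer_singleton_iff.1 hy, mul_smul,
        fixSub_zpowers.1 hv])) hu (fun e => hu0 (Subtype.ext e))
  rw [bot_inf_eq, Subgroup.card_bot, mul_one, mul_one] at h1
  refine Or.inr ⟨Nat.card (fixSub V (zpowers x)), ?_,
    le_trans (Nat.pow_le_pow_right hW1 hs) hcard⟩
  rw [h.index_split (centralizer {x})]
  refine Nat.mul_le_mul (((c.centralizer_sup_index_le h hx hxU hxs).trans (c.relIndex_le h hirr)).trans ?_)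
    (h1.trans (Nat.sub_le _ _))
  rcases Nat.eq_zero_or_pos (Nat.log 2 (Nat.card V)) with h0 | h0
  · rw [h0]; norm_num
  · exact Nat.pow_le_pow_right h0 (by norm_num)

end SympCtx

section Two

variable {K0 S H U : Subgroup M} {z : M} (c : SympCtx 2 K0 S H U z) [Finite M]
include c

theorem SympCtx.eq_or_eq_two {a : M} (ha : a ∈ zpowers z) : a = 1 ∨ a = z := by
  by_contra hne
  push Not at hne
  obtain ⟨i, rfl⟩ := mem_zpowers_iff.1 ha
  rcases Int.even_or_odd' i with ⟨j, rfl | rfl⟩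
  · exact hne.1 (by rw [zpow_mul]; norm_cast; rw [c.z_pow, one_zpow])
  · exact hne.2 (by rw [zpow_add, zpow_mul]; norm_cast; rw [c.z_pow, one_zpow, one_mul, pow_one])

theorem SympCtx.conj_cases {g x : M} (hg : g ∈ H) (hx : x ∈ H) :
    g * x * g⁻¹ = x ∨ g * x * g⁻¹ = z * x := by
  have h1 : g * x * g⁻¹ = ⁅g, x⁆ * x := by rw [commutatorElement_def]; group
  rcases c.eq_or_eq_two (c.comm g hg x hx) with h2 | h2 <;> rw [h1, h2]
  · exact Or.inl (one_mul x)
  · exact Or.inr rfl

theorem SympCtx.exists_sep {x y : M} (hx : x ∈ H) (hy : y ∈ H) (hxU : x ∉ U) (hxyU : x * y ∉ U) :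
    ∃ g ∈ H, g * x * g⁻¹ = z * x ∧ g * y * g⁻¹ = y := by
  obtain ⟨gA, hA, hAx⟩ := c.exists_conj hx hxU (mem_zpowers z)
  rcases c.conj_cases hA hy with hAy | hAy
  · exact ⟨gA, hA, hAx, hAy⟩
  obtain ⟨gC, hC, hCxy⟩ := c.exists_conj (H.mul_mem hx hy) hxyU (mem_zpowers z)
  rw [← conj_mul] at hCxy
  have hz2 : z * z = 1 := by rw [← sq, c.z_pow]
  rcases c.conj_cases hC hx with hCx | hCx <;> rcases c.conj_cases hC hy with hCy | hCy
  · rw [hCx, hCy] at hCxy
    have h1 : z = 1 := mul_eq_right.1 hCxy.symm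
    have h2 := c.z_order
    rw [h1, orderOf_one] at h2
    omega
  · refine ⟨gA * gC, H.mul_mem hA hC, ?_, ?_⟩
    · rw [show gA * gC * x * (gA * gC)⁻¹ = gA * (gC * x * gC⁻¹) * gA⁻¹ by group, hCx, hAx]
    · rw [show gA * gC * y * (gA * gC)⁻¹ = gA * (gC * y * gC⁻¹) * gA⁻¹ by group, hCy, ← conj_mul,
        hAy, (c.z_central gA (c.HS hA)).eq, mul_inv_cancel_right, ← mul_assoc, hz2, one_mul]
  · exact ⟨gC, hC, hCx, hCy⟩
  · rw [hCx, hCy] at hCxy
    have h1 : z * x * (z * y) = z * z * (x * y) := by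
      rw [mul_assoc z x, ← mul_assoc x z y, (c.z_central x (c.HS hx)).eq]; simp only [mul_assoc]
    rw [h1, hz2, one_mul] at hCxy
    have h2 : z = 1 := mul_eq_right.1 hCxy.symm
    have h3 := c.z_order
    rw [h2, orderOf_one] at h3
    omega

theorem SympCtx.exists_sep_pair {x y a b : M} (hx : x ∈ H) (hy : y ∈ H) (hxU : x ∉ U)
    (hyU : y ∉ U) (hxyU : x * y ∉ U) (hxy : Commute x y) (ha : a ∈ zpowers z) (hb : b ∈ zpowers z) :
    ∃ t ∈ H, t * x * t⁻¹ = a * x ∧ t * y * t⁻¹ = b * y := by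
  obtain ⟨gx, hgx, hgxx, hgxy⟩ := c.exists_sep hx hy hxU hxyU
  obtain ⟨gy, hgy, hgyy, hgyx⟩ := c.exists_sep hy hx hyU (by rwa [← hxy.eq])
  rcases c.eq_or_eq_two ha with rfl | rfl <;> rcases c.eq_or_eq_two hb with rfl | rfl
  · exact ⟨1, H.one_mem, by simp, by simp⟩
  · exact ⟨gy, hgy, by rw [hgyx, one_mul], hgyy⟩
  · exact ⟨gx, hgx, hgxx, by rw [hgxy, one_mul]⟩
  · refine ⟨gx * gy, H.mul_mem hgx hgy, ?_, ?_⟩
    · rw [show gx * gy * x * (gx * gy)⁻¹ = gx * (gy * x * gy⁻¹) * gx⁻¹ by group, hgyx, hgxx]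
    · rw [show gx * gy * y * (gx * gy)⁻¹ = gx * (gy * y * gy⁻¹) * gx⁻¹ by group, hgyy, ← conj_mul,
        hgxy, (c.z_central gx (c.HS hgx)).eq, mul_inv_cancel_right]

variable {V : Type*} [AddCommGroup V] [DistribMulAction M V] [Finite V] [Nontrivial V] {p : ℕ}
  (h : Setup V p K0) (hirr : Irred M V)
include h hirr

theorem SympCtx.small_of_pair {x y : M} (hx : x ∈ H) (hy : y ∈ H) (hxU : x ∉ U) (hxs : x ^ 2 = 1)
    (hxy : Commute x y) (hyx : y ∉ zpowers x) {u : V} (hu : u ≠ 0) (hxu : x • u = u)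
    (hyu : y • u = u) : Small (Nat.card V) K0.index := by
  classical
  have hys : y ^ 2 = 1 := by
    by_contra hne
    refine hu (c.U_free h hirr (c.pow_mem_U y hy) hne ?_)
    exact pow_mem (show y ∈ stabilizer M u from hyu) 2
  have hyU : y ∉ U := fun hm => hu (c.U_free h hirr hm (fun e => hyx (e ▸ one_mem _)) hyu)
  have hxyU : x * y ∉ U := by
    intro hm
    refine hu (c.U_free h hirr hm (fun e => hyx ?_) (by rw [mul_smul, hyu, hxu]))
    rw [eq_inv_of_mul_eq_one_right e]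
    exact inv_mem (mem_zpowers x)
  set W := fixSub V (zpowers x ⊔ zpowers y)
  have hmemW : ∀ (a b : M) (v : V), v ∈ fixSub V (zpowers a ⊔ zpowers b) ↔ a • v = v ∧ b • v = v := by
    intro a b v
    refine ⟨fun hv => ⟨hv a (mem_sup_left (mem_zpowers a)), hv b (mem_sup_right (mem_zpowers b))⟩,
      fun hv g hg => ?_⟩
    exact (sup_le (zpowers_le.2 (show a ∈ stabilizer M v from hv.1))
      (zpowers_le.2 (show b ∈ stabilizer M v from hv.2))) hg
  have huW : u ∈ W := (hmemW x y u).2 ⟨hxu, hyu⟩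
  -- four translates
  let B : Fin 2 × Fin 2 → Subgroup M := fun ij =>
    zpowers (z ^ (ij.1 : ℕ) * x) ⊔ zpowers (z ^ (ij.2 : ℕ) * y)
  have hzH : z ∈ H := c.UH c.z_mem
  have hmemK : ∀ (i : ℕ) (w : M), w ∈ H → z ^ i * w ∈ K0 := fun i w hw =>
    c.S_le (c.HS (H.mul_mem (H.pow_mem hzH i) hw))
  have hprod := h.prod_card_fixSub_le (V := V) B
    (fun ij => sup_le (zpowers_le.2 (hmemK _ x hx)) (zpowers_le.2 (hmemK _ y hy))) ?_ ?_
  · have hcards : ∀ ij, Nat.card (fixSub V (B ij)) = Nat.card W := by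
      rintro ⟨i, j⟩
      obtain ⟨t, ht, htx, hty⟩ := c.exists_sep_pair hx hy hxU hyU hxyU hxy
        (pow_mem (mem_zpowers z) (i : ℕ)) (pow_mem (mem_zpowers z) (j : ℕ))
      have hiff : ∀ v : V, v ∈ fixSub V (B (i, j)) ↔ t⁻¹ • v ∈ W := by
        intro v
        rw [hmemW, hmemW, ← htx, ← hty, mul_smul, mul_smul, mul_smul, mul_smul,
          smul_eq_iff_eq_inv_smul t, smul_eq_iff_eq_inv_smul t]
      exact Nat.card_congr
        { toFun := fun v => ⟨t⁻¹ • (v : V), (hiff _).1 v.2⟩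
          invFun := fun v => ⟨t • (v : V), (hiff _).2 (by rw [inv_smul_smul]; exact v.2)⟩
          left_inv := fun v => Subtype.ext (smul_inv_smul t (v : V))
          right_inv := fun v => Subtype.ext (inv_smul_smul t (v : V)) }
    rw [Finset.prod_congr rfl (fun ij _ => hcards ij), Finset.prod_const, Finset.card_univ,
      Fintype.card_prod, Fintype.card_fin] at hprod
    set Yc := centralizer ({x, y} : Set M)
    have hrel := h.relIndex_mul_card_le (Y := Yc) (X := ⊥) bot_le bot_le (U := W)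
      (fun g hg v hv => by
        have hgx := Subgroup.mem_centralizer_iff.1 hg x (Set.mem_insert _ _)
        have hgy := Subgroup.mem_centralizer_iff.1 hg y (Set.mem_insert_of_mem _ rfl)
        obtain ⟨h1, h2⟩ := (hmemW x y v).1 hv
        exact (hmemW x y _).2 ⟨by rw [smul_smul, hgx, mul_smul, h1],
          by rw [smul_smul, hgy, mul_smul, h2]⟩) huW hu
    rw [bot_inf_eq, Subgroup.card_bot, mul_one, mul_one] at hrel
    have hidx : (Yc ⊔ K0).index ≤ U.relIndex H * U.relIndex H := by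
      have hf : ∀ g w : M, w ∈ H → g * w * g⁻¹ ∈ H := fun g w hw => c.conj_mem_H hw
      have h1 := h.index_sup_le (Y := Yc) (Set.univ : Set ((H ⧸ U.subgroupOf H) × (H ⧸ U.subgroupOf H)))
        (Set.toFinite _) (fun g => (((⟨g * x * g⁻¹, hf g x hx⟩ : H) : H ⧸ U.subgroupOf H),
          ((⟨g * y * g⁻¹, hf g y hy⟩ : H) : H ⧸ U.subgroupOf H))) (fun g => trivial) ?_
      · rwa [Set.ncard_univ, Nat.card_prod] at h1
      · intro g g' he
        rw [Prod.mk.injEq, QuotientGroup.eq, QuotientGroup.eq, mem_subgroupOf, mem_subgroupOf] at he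
        obtain ⟨a, ha, hax, -⟩ := c.coset_conj hx hxU hxs (g := g) (g' := g') he.1
        obtain ⟨b, hb, hby, -⟩ := c.coset_conj hy hyU hys (g := g) (g' := g') he.2
        obtain ⟨t, ht, htx, hty⟩ := c.exists_sep_pair (hf g x hx) (hf g y hy)
          (c.conj_not_mem_U hxU) (c.conj_not_mem_U hyU)
          (by rw [conj_mul]; exact c.conj_not_mem_U hxyU) (hxy.map (MulAut.conj g)) ha hb
        refine ⟨t, c.S_le (c.HS ht), ?_⟩
        rw [← hax] at htx
        rw [← hby] at hty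
        rw [Subgroup.mem_centralizer_iff]
        rintro w hw
        have key : ∀ v : M, t * (g * v * g⁻¹) * t⁻¹ = g' * v * g'⁻¹ →
            v * (g'⁻¹ * t * g) = g'⁻¹ * t * g * v := fun v hv => by
          calc v * (g'⁻¹ * t * g) = g'⁻¹ * (g' * v * g'⁻¹) * (t * g) := by group
            _ = g'⁻¹ * (t * (g * v * g⁻¹) * t⁻¹) * (t * g) := by rw [hv]
            _ = g'⁻¹ * t * g * v := by group
        rcases hw with rfl | hw
        · exact key _ htx
        · rw [Set.mem_singleton_iff] at hw; subst hw; exact key _ hty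
    have hW : 1 ≤ Nat.card W := Nat.card_pos
    refine Or.inr ⟨Nat.card W, ?_, le_trans (Nat.pow_le_pow_right hW (by norm_num)) hprod⟩
    rw [h.index_split Yc]
    have hU := c.relIndex_le h hirr
    refine Nat.mul_le_mul ((hidx.trans (Nat.mul_le_mul hU hU)).trans ?_)
      (hrel.trans (Nat.sub_le _ _))
    rw [← pow_add]
    rcases Nat.eq_zero_or_pos (Nat.log 2 (Nat.card V)) with h0 | h0
    · rw [h0]; norm_num
    · exact Nat.pow_le_pow_right h0 (by norm_num)
  · intro ij kl b hb b' hb'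
    have hc : ∀ (i j : ℕ), Commute (z ^ i * x) (z ^ j * y) := fun i j =>
      (((Commute.refl z).pow_pow i j).mul_left ((c.z_central x (c.HS hx)).pow_right j)).mul_right
        (((c.z_central y (c.HS hy)).symm.pow_left i).mul_left hxy)
    have hxx : ∀ (i j : ℕ), Commute (z ^ i * x) (z ^ j * x) := fun i j =>
      (((Commute.refl z).pow_pow i j).mul_left ((c.z_central x (c.HS hx)).pow_right j)).mul_right
        (((c.z_central x (c.HS hx)).symm.pow_left i).mul_left (Commute.refl x))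
    have hyy : ∀ (i j : ℕ), Commute (z ^ i * y) (z ^ j * y) := fun i j =>
      (((Commute.refl z).pow_pow i j).mul_left ((c.z_central y (c.HS hy)).pow_right j)).mul_right
        (((c.z_central y (c.HS hy)).symm.pow_left i).mul_left (Commute.refl y))
    have hle : B kl ≤ centralizer (B ij : Set M) := by
      refine sup_le (zpowers_le.2 ?_) (zpowers_le.2 ?_)
      all_goals
        rw [Subgroup.mem_centralizer_iff]
        intro w hw
        refine (sup_le (zpowers_le.2 ?_) (zpowers_le.2 ?_) : B ij ≤ centralizer {_}) hw |>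
          Subgroup.mem_centralizer_singleton_iff.1
        all_goals
          rw [Subgroup.mem_centralizer_singleton_iff]
          first
            | exact (hc _ _).eq
            | exact (hc _ _).symm.eq
            | exact (hxx _ _).eq
            | exact (hyy _ _).eq
    exact Subgroup.mem_centralizer_iff.1 (hle hb') b hb
  · rintro ⟨i, j⟩ ⟨k, l⟩ hne
    refine AddSubgroup.disjoint_def.2 fun {v} hv hv' => ?_
    rw [hmemW] at hv hv'
    by_contra hv0
    have key : ∀ (i k : Fin 2) (w : M), (z ^ (i : ℕ) * w) • v = v → (z ^ (k : ℕ) * w) • v = v →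
        i = k := by
      intro i k w h1 h2
      by_contra hik
      refine hv0 (c.z_free h hirr (mem_zpowers z) ?_ ?_)
      · intro hz1
        have h3 := c.z_order
        rw [hz1, orderOf_one] at h3
        omega
      · fin_cases i <;> fin_cases k <;> simp at hik h1 h2 ⊢
        · rwa [mul_smul, h1] at h2
        · rwa [mul_smul, h2] at h1
    exact hne (Prod.ext (key i k x hv.1 hv'.1) (key j l y hv.2 hv'.2))

theorem SympCtx.small_of_no_pair {x : M} (hx : x ∈ H) (hxU : x ∉ U) (hxs : x ^ 2 = 1)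
    (hno : ∀ v : V, v ≠ 0 → x • v = v → ∀ y ∈ H, Commute x y → y • v = v → y ∈ zpowers x) :
    Small (Nat.card V) K0.index := by
  classical
  have := Fintype.ofFinite M
  obtain ⟨g0, hg0, hg0x⟩ := c.exists_conj hx hxU (mem_zpowers z)
  have hz1 : z ≠ 1 := fun e => by
    have h3 := c.z_order
    rw [e, orderOf_one] at h3
    omega
  have hzH : z ∈ H := c.UH c.z_mem
  obtain ⟨hW, hcard⟩ := c.translates h hirr (c.HS hx) hxs (c.HS hg0) (mem_zpowers z) hz1 hg0x
  set W := fixSub V (zpowers x)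
  obtain ⟨⟨u, hu⟩, hu0⟩ := (AddSubgroup.ne_bot_iff_exists_ne_zero).1 hW
  have hu0' : u ≠ 0 := fun e => hu0 (Subtype.ext e)
  set X := H ⊓ centralizer {x}
  have hxX : x ∈ X := ⟨hx, Subgroup.mem_centralizer_singleton_iff.2 rfl⟩
  have hzX : z ∈ X := ⟨hzH, Subgroup.mem_centralizer_singleton_iff.2 (c.z_central x (c.HS hx)).eq.symm⟩
  -- the orbit bound
  have hXW : ∀ g ∈ centralizer ({x} : Set M), ∀ v ∈ W, g • v ∈ W := fun g hg v hv =>
    fixSub_zpowers.2 (by
      rw [smul_smul, ← Subgroup.mem_centralizer_singleton_iff.1 hg, mul_smul, fixSub_zpowers.1 hv])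
  have hrel := h.relIndex_mul_card_le (Y := centralizer {x}) (X := X) inf_le_right
    (inf_le_left.trans (c.HS.trans c.S_le)) (U := W) hXW hu hu0'
  have hXu : Nat.card (X ⊓ stabilizer M u : Subgroup M) ≤ 2 := by
    have hle : X ⊓ stabilizer M u ≤ zpowers x := fun y hy => hno u hu0' (fixSub_zpowers.1 hu) y
      hy.1.1 (Subgroup.mem_centralizer_singleton_iff.1 hy.1.2).symm hy.2
    refine (Subgroup.card_le_of_le hle).trans ?_
    rw [Nat.card_zpowers]
    exact Nat.le_of_dvd two_pos (orderOf_dvd_of_pow_eq_one hxs)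
  -- the involutions
  set I0 : Finset M := Finset.univ.filter fun y => y ∈ H ∧ y ∉ U ∧ y ^ 2 = 1
  set P : M → Finset M := fun y => {y, z * y}
  set T : Finset (Finset M) := I0.image P
  have hT : 2 * T.card ≤ I0.card := by
    refine Finset.mul_card_image_le_card I0 2 fun a ha => ?_
    obtain ⟨y, hy, rfl⟩ := Finset.mem_image.1 ha
    rw [Finset.mem_filter] at hy
    refine Finset.one_lt_card.2 ⟨y, Finset.mem_filter.2 ⟨Finset.mem_filter.2 hy, rfl⟩, z * y,
      Finset.mem_filter.2 ⟨Finset.mem_filter.2 ⟨Finset.mem_univ _, H.mul_mem hzH hy.2.1,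
        fun hm => hy.2.2.1 ?_, ?_⟩, ?_⟩, fun e => hz1 (mul_eq_right.1 e.symm)⟩
    · have := U.mul_mem (U.inv_mem c.z_mem) hm
      rwa [inv_mul_cancel_left] at this
    · rw [(c.z_central y (c.HS hy.2.1)).symm.mul_pow, hy.2.2.2, c.z_pow, mul_one]
    · simp only [P, ← mul_assoc, ← sq, c.z_pow, one_mul]
      exact Finset.pair_comm _ _
  have hidx : (centralizer {x} ⊔ K0).index ≤ T.card := by
    rw [← Set.ncard_coe_finset]
    refine h.index_sup_le _ (Finset.finite_toSet _) (fun g => P (g * x * g⁻¹)) (fun g => ?_) ?_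
    · exact Finset.mem_image_of_mem _ (Finset.mem_filter.2 ⟨Finset.mem_univ _, c.conj_mem_H hx,
        c.conj_not_mem_U hxU, by rw [conj_pow, hxs, mul_one, mul_inv_cancel]⟩)
    · intro g g' he
      have hmem : g' * x * g'⁻¹ ∈ P (g * x * g⁻¹) := he ▸ Finset.mem_insert_self _ _
      simp only [P, Finset.mem_insert, Finset.mem_singleton] at hmem
      have hcm : (g * x * g⁻¹)⁻¹ * (g' * x * g'⁻¹) ∈ U := by
        rcases hmem with e | e <;> rw [e]
        · rw [inv_mul_cancel]; exact U.one_mem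
        · rw [← mul_assoc, ← (c.z_central _ (S.inv_mem (c.HS (c.conj_mem_H hx)))).eq.symm,
            inv_mul_cancel_right]
          exact c.z_mem
      obtain ⟨-, -, -, t, ht, htx⟩ := c.coset_conj hx hxU hxs hcm
      refine ⟨t, c.S_le (c.HS ht), ?_⟩
      rw [Subgroup.mem_centralizer_singleton_iff]
      calc g'⁻¹ * t * g * x = g'⁻¹ * (t * (g * x * g⁻¹) * t⁻¹) * (t * g) := by group
        _ = g'⁻¹ * (g' * x * g'⁻¹) * (t * g) := by rw [htx]
        _ = x * (g'⁻¹ * t * g) := by group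
  -- counting
  set Hf : Finset M := Finset.univ.filter fun y => y ∈ H
  set Xf : Finset M := Finset.univ.filter fun y => y ∈ X
  have hXf : Xf.card = Nat.card X := by rw [Nat.card_eq_fintype_card, Fintype.card_subtype]
  have hout : ∀ y ∈ H, y ∉ X → y * x * y⁻¹ = z * x := by
    intro y hy hyX
    refine (c.conj_cases hy hx).resolve_left fun e => hyX ⟨hy, ?_⟩
    show y ∈ centralizer {x}
    rw [Subgroup.mem_centralizer_singleton_iff, ← mul_inv_eq_iff_eq_mul, e]
  have hdiff : (Hf.filter (· ∉ X)).card ≤ Xf.card := by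
    refine Finset.card_le_card_of_injOn (g0 * ·) (fun y hy => ?_) (fun a _ b _ e => mul_left_cancel e)
    simp only [Finset.coe_filter, Finset.mem_filter, Hf, Xf, Finset.mem_univ, true_and,
      Set.mem_ofPred_eq] at hy ⊢
    refine ⟨H.mul_mem hg0 hy.1, ?_⟩
    show g0 * y ∈ centralizer {x}
    rw [Subgroup.mem_centralizer_singleton_iff, ← mul_inv_eq_iff_eq_mul,
      show g0 * y * x * (g0 * y)⁻¹ = g0 * (y * x * y⁻¹) * g0⁻¹ by group, hout y hy.1 hy.2, ← conj_mul,
      hg0x, (c.z_central g0 (c.HS hg0)).eq, mul_inv_cancel_right, ← mul_assoc, ← sq, c.z_pow, one_mul]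
  have hin : (I0.filter (· ∈ X)).card ≤ 2 := by
    refine (Finset.card_le_card (t := ({x, z * x} : Finset M)) fun y hy => ?_).trans Finset.card_le_two
    simp only [Finset.mem_filter, I0, Finset.mem_univ, true_and] at hy
    obtain ⟨⟨hyH, hyU, hys⟩, hyX⟩ := hy
    rw [Finset.mem_insert, Finset.mem_singleton]
    by_contra hne
    push Not at hne
    have hcy := Subgroup.mem_centralizer_singleton_iff.1 hyX.2
    have hnotx : ∀ w : M, w ∈ zpowers x → w = 1 ∨ w = x := by
      intro w hw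
      obtain ⟨i, rfl⟩ := mem_zpowers_iff.1 hw
      rcases Int.even_or_odd' i with ⟨j, rfl | rfl⟩
      · exact Or.inl (by rw [zpow_mul]; norm_cast; rw [hxs, one_zpow])
      · exact Or.inr (by rw [zpow_add, zpow_mul]; norm_cast; rw [hxs, one_zpow, one_mul, pow_one])
    -- `y` inverts `u`, hence `z * y` fixes it
    have hyu : y • u = -u := by
      by_contra hyu
      have hfix : y • (u + y • u) = u + y • u := by
        rw [smul_add, smul_smul, ← sq, hys, one_smul, add_comm]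
      have hne0 : u + y • u ≠ 0 := fun e => hyu (eq_neg_of_add_eq_zero_right e)
      rcases hnotx y (hno _ hne0 (fixSub_zpowers.1 (W.add_mem hu (hXW y hyX.2 u hu))) y hyH hcy.symm
        hfix) with e | e
      · exact hyU (e ▸ U.one_mem)
      · exact hne.1 e
    have hzu : z • u = -u := by
      by_contra hzu
      have hfix : z • (u + z • u) = u + z • u := by
        rw [smul_add, smul_smul, ← sq, c.z_pow, one_smul, add_comm]
      exact (fun e => hzu (eq_neg_of_add_eq_zero_right e)) (c.z_free h hirr (mem_zpowers z) hz1 hfix)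
    have hzy : z * y ∈ zpowers x := hno u hu0' (fixSub_zpowers.1 hu) _ (H.mul_mem hzH hyH)
      ((c.z_central x (c.HS hx)).mul_right hcy.symm)
      (by rw [mul_smul, hyu, smul_neg, hzu, neg_neg])
    rcases hnotx _ hzy with e | e
    · exact hyU (by rw [eq_inv_of_mul_eq_one_right e]; exact U.inv_mem c.z_mem)
    · refine hne.2 ?_
      rw [← e, ← mul_assoc, ← sq, c.z_pow, one_mul]
  have hinj : 2 * (I0.filter (· ∉ X)).card ≤ (Hf.filter (· ∉ X)).card := by
    set A := I0.filter (· ∉ X)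
    have hA : ∀ y ∈ A, y ∈ H ∧ y ∉ X ∧ y ^ 2 = 1 := fun y hy => by
      simp only [A, I0, Finset.mem_filter, Finset.mem_univ, true_and] at hy
      exact ⟨hy.1.1, hy.2, hy.1.2.2⟩
    have hdis : Disjoint A (A.image (· * x)) := by
      rw [Finset.disjoint_left]
      intro w hw hw'
      obtain ⟨y, hy, rfl⟩ := Finset.mem_image.1 hw'
      obtain ⟨hyH, hyX, hys⟩ := hA y hy
      have h2 := (hA _ hw).2.2
      refine hz1 ?_
      have h3 : (y * x) ^ 2 = y * x * y⁻¹ * y ^ 2 * x := by simp only [sq, mul_assoc, inv_mul_cancel_left]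
      rw [h2, hys, mul_one, hout y hyH hyX, mul_assoc, ← sq, hxs, mul_one] at h3
      exact h3.symm
    calc 2 * A.card = (A ∪ A.image (· * x)).card := by
          rw [Finset.card_union_of_disjoint hdis, Finset.card_image_of_injective _ (mul_left_injective x),
            two_mul]
      _ ≤ _ := Finset.card_le_card (Finset.union_subset (fun y hy => by
          obtain ⟨h1, h2, -⟩ := hA y hy
          simp [Hf, h1, h2]) fun w hw => by
          obtain ⟨y, hy, rfl⟩ := Finset.mem_image.1 hw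
          obtain ⟨h1, h2, -⟩ := hA y hy
          simp only [Hf, Finset.mem_filter, Finset.mem_univ, true_and]
          exact ⟨H.mul_mem h1 hx, fun hm => h2 ((X.mul_mem_cancel_right hxX).1 hm)⟩)
  have h4 : 4 ≤ Xf.card := by
    have hxz : x ≠ z := fun e => hxU (e ▸ c.z_mem)
    have hx1 : x ≠ 1 := fun e => hxU (e ▸ U.one_mem)
    have hzx : z * x ≠ 1 := fun e => hxU (by rw [eq_inv_of_mul_eq_one_right e]; exact U.inv_mem c.z_mem)
    have hsub : ({1, z, x, z * x} : Finset M) ⊆ Xf := by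
      intro w hw
      simp only [Finset.mem_insert, Finset.mem_singleton] at hw
      rcases hw with rfl | rfl | rfl | rfl <;> simp [Xf, X.one_mem, hzX, hxX, X.mul_mem hzX hxX]
    refine le_trans (le_of_eq (?_ : 4 = _)) (Finset.card_le_card hsub)
    rw [Finset.card_insert_of_notMem, Finset.card_insert_of_notMem, Finset.card_insert_of_notMem,
      Finset.card_singleton]
    · rw [Finset.mem_singleton]; exact fun e => hz1 (mul_eq_right.1 e.symm)
    · simp only [Finset.mem_insert, Finset.mem_singleton]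
      rintro (e | e)
      · exact hxz e.symm
      · exact hx1 (left_eq_mul.1 e)
    · simp only [Finset.mem_insert, Finset.mem_singleton]
      rintro (e | e | e)
      · exact hz1 e.symm
      · exact hx1 e.symm
      · exact hzx e.symm
  have hI : I0.card = (I0.filter (· ∈ X)).card + (I0.filter (· ∉ X)).card :=
    (Finset.card_filter_add_card_filter_not _).symm
  refine small_of_sq ?_ ?_ le_rfl hcard
  · have : Nontrivial W := ⟨⟨u, hu⟩, 0, hu0⟩
    exact Finite.one_lt_card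
  · have he : 2 * (centralizer {x} ⊔ K0).index ≤ Nat.card X := by omega
    have hW1 : 1 ≤ Nat.card W := Nat.card_pos
    suffices hm : K0.index * Nat.card X ≤ (Nat.card W - 1) * Nat.card X by
      have := Nat.le_of_mul_le_mul_right hm Nat.card_pos
      omega
    rw [h.index_split (centralizer {x}), mul_assoc]
    calc (centralizer {x} ⊔ K0).index * (K0.relIndex (centralizer {x}) * Nat.card X)
        ≤ (centralizer {x} ⊔ K0).index * ((Nat.card W - 1) * 2) :=
          Nat.mul_le_mul_left _ (hrel.trans (Nat.mul_le_mul_left _ hXu))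
      _ = (Nat.card W - 1) * (2 * (centralizer {x} ⊔ K0).index) := by ring
      _ ≤ _ := Nat.mul_le_mul_left _ he

end Two

section Cyclic

variable {s : ℕ} {K0 S H U : Subgroup M} {z : M} (c : SympCtx s K0 S H U z) [Finite M]
  {V : Type*} [AddCommGroup V] [DistribMulAction M V] [Finite V] [Nontrivial V] {p : ℕ}
  (h : Setup V p K0) (hirr : Irred M V)
include c h hirr

theorem SympCtx.small_of_outer (hHU : H = U) {x : M} (hx : x ∈ S) (hxU : x ∉ U) (hxs : x ^ s = 1) :
    Small (Nat.card V) K0.index := by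
  classical
  have hUn := c.U_normal
  have hUcomm : ∀ a ∈ U, ∀ b ∈ U, Commute a b := fun a ha b hb => c.central b hb a (hHU ▸ ha)
  -- the conjugates of `x` lie in `U * x`
  have hconjU : ∀ g : M, g * x * g⁻¹ * x⁻¹ ∈ U := by
    intro g
    refine c.cent _ (S.mul_mem (c.S_normal.conj_mem x hx g) (S.inv_mem hx)) fun u hu => ?_
    rw [hHU] at hu
    have := c.cyclic
    obtain ⟨r, hr⟩ := MonoidHom.map_cyclic (G := U)
      ({ toFun := fun w => ⟨x⁻¹ * (w : M) * x, by simpa using hUn.conj_mem _ w.2 x⁻¹⟩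
         map_one' := Subtype.ext (by simp)
         map_mul' := fun a b => Subtype.ext (by simp [mul_assoc]) } : U →* U)
    have hr' : ∀ w ∈ U, x⁻¹ * w * x = w ^ r := fun w hw => congrArg Subtype.val (hr ⟨w, hw⟩)
    have h1 : g⁻¹ * u * g ∈ U := by simpa using hUn.conj_mem _ hu g⁻¹
    have hgu : (g * x * g⁻¹)⁻¹ * u * (g * x * g⁻¹) = x⁻¹ * u * x := by
      rw [show (g * x * g⁻¹)⁻¹ * u * (g * x * g⁻¹) = g * (x⁻¹ * (g⁻¹ * u * g) * x) * g⁻¹ by group,
        hr' _ h1, hr' _ hu, ← conj_zpow]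
      group
    calc u * (g * x * g⁻¹ * x⁻¹)
        = g * x * g⁻¹ * ((g * x * g⁻¹)⁻¹ * u * (g * x * g⁻¹)) * x⁻¹ := by group
      _ = g * x * g⁻¹ * x⁻¹ * u := by rw [hgu]; group
  let φ : U →* U :=
    { toFun := fun w => ⟨x * (w : M) * x⁻¹ * (w : M)⁻¹, U.mul_mem (hUn.conj_mem _ w.2 x) (U.inv_mem w.2)⟩
      map_one' := Subtype.ext (by simp)
      map_mul' := fun a b => Subtype.ext (by
        show x * ((a : M) * b) * x⁻¹ * ((a : M) * b)⁻¹ =
          x * a * x⁻¹ * (a : M)⁻¹ * (x * b * x⁻¹ * (b : M)⁻¹)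
        have h1 := (hUcomm _ (U.inv_mem a.2) _ (U.mul_mem (hUn.conj_mem _ b.2 x) (U.inv_mem b.2))).eq
        rw [mul_assoc _ (a : M)⁻¹, h1]
        group) }
  have hφ : ∀ w : U, (φ w : M) = x * (w : M) * x⁻¹ * (w : M)⁻¹ := fun w => rfl
  -- a translate
  obtain ⟨w0, hw0⟩ : ∃ w0 : U, φ w0 ≠ 1 := by
    by_contra hcon
    push Not at hcon
    refine hxU (c.cent x hx fun k hk => ?_)
    rw [hHU] at hk
    have h1 := congrArg Subtype.val (hcon ⟨k, hk⟩)
    rw [hφ, OneMemClass.coe_one, mul_inv_eq_one, mul_inv_eq_iff_eq_mul] at h1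
    exact h1.symm
  obtain ⟨a, hazp, ha1, g0, hg0⟩ : ∃ a ∈ zpowers z, a ≠ 1 ∧ ∃ g0 ∈ U, g0 * x * g0⁻¹ = a * x := by
    have := Fact.mk c.prime
    obtain ⟨k, hk⟩ := IsPGroup.iff_orderOf.1 c.S_pgroup ⟨(φ w0 : M), c.HS (c.UH (φ w0).2)⟩
    rw [orderOf_mk, orderOf_coe] at hk
    obtain ⟨j, rfl⟩ : ∃ j, k = j + 1 := Nat.exists_eq_succ_of_ne_zero (by
      rintro rfl
      exact hw0 (orderOf_eq_one_iff.1 (by rw [hk, pow_zero])))
    refine ⟨((φ w0 ^ s ^ j : U) : M), c.torsion _ (φ w0 ^ s ^ j : U).2 ?_, ?_, (((w0 ^ s ^ j)⁻¹ : U) : M),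
      ((w0 ^ s ^ j)⁻¹ : U).2, ?_⟩
    · rw [← Subgroup.coe_pow, ← pow_mul, ← pow_succ, ← hk, pow_orderOf_eq_one, OneMemClass.coe_one]
    · intro he
      have h1 := Nat.le_of_dvd (pow_pos c.prime.pos j)
        (orderOf_dvd_of_pow_eq_one (Subtype.ext he : φ w0 ^ s ^ j = 1))
      rw [hk] at h1
      exact absurd ((Nat.pow_le_pow_iff_right c.prime.one_lt).1 h1) (by omega)
    · have key : ∀ v ∈ U, v⁻¹ * x * v⁻¹⁻¹ = x * v * x⁻¹ * v⁻¹ * x := fun v hv => by
        rw [(hUcomm _ (hUn.conj_mem _ hv x) _ (U.inv_mem hv)).eq]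
        group
      rw [← map_pow, hφ, Subgroup.coe_inv]
      exact key _ (w0 ^ s ^ j : U).2
  obtain ⟨hW, hcard⟩ := c.translates h hirr hx hxs (c.HS (c.UH hg0.1)) hazp ha1 hg0.2
  set W := fixSub V (zpowers x)
  obtain ⟨⟨u, hu⟩, hu0⟩ := (AddSubgroup.ne_bot_iff_exists_ne_zero).1 hW
  have hu0' : u ≠ 0 := fun e => hu0 (Subtype.ext e)
  set X := U ⊓ centralizer {x}
  have hrel := h.relIndex_mul_card_le (Y := centralizer {x}) (X := X) inf_le_right
    (inf_le_left.trans ((c.UH.trans c.HS).trans c.S_le)) (U := W) (fun g hg v hv =>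
      fixSub_zpowers.2 (by
        rw [smul_smul, ← Subgroup.mem_centralizer_singleton_iff.1 hg, mul_smul, fixSub_zpowers.1 hv]))
    hu hu0'
  rw [show X ⊓ stabilizer M u = ⊥ from (Subgroup.eq_bot_iff_forall _).2 fun y hy => by_contra fun hy1 =>
    hu0' (c.U_free h hirr hy.1.1 hy1 hy.2), Subgroup.card_bot, mul_one] at hrel
  have hker : Nat.card φ.ker = Nat.card X := Nat.card_congr
    { toFun := fun w => ⟨((w : U) : M), (w : U).2, by
        have h1 := congrArg Subtype.val (MonoidHom.mem_ker.1 w.2)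
        rw [hφ, OneMemClass.coe_one, mul_inv_eq_one, mul_inv_eq_iff_eq_mul] at h1
        exact Subgroup.mem_centralizer_singleton_iff.2 h1.symm⟩
      invFun := fun w => ⟨⟨w.1, w.2.1⟩, MonoidHom.mem_ker.2 (Subtype.ext (by
        show x * (w : M) * x⁻¹ * (w : M)⁻¹ = 1
        rw [← Subgroup.mem_centralizer_singleton_iff.1 w.2.2]; group))⟩
      left_inv := fun w => rfl
      right_inv := fun w => rfl }
  have hidx : (centralizer {x} ⊔ K0).index ≤ Nat.card X := by
    rw [← hker, ← Subgroup.index_range]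
    have h1 := h.index_sup_le (Y := centralizer {x}) (Set.univ : Set (U ⧸ φ.range)) (Set.toFinite _)
      (fun g => ((⟨g * x * g⁻¹ * x⁻¹, hconjU g⟩ : U) : U ⧸ φ.range)) (fun g => trivial) ?_
    · rwa [Set.ncard_univ] at h1
    · intro g g' he
      rw [QuotientGroup.eq] at he
      obtain ⟨w, hw⟩ := he
      have hw' := congrArg Subtype.val hw
      rw [hφ, Subgroup.coe_mul, Subgroup.coe_inv] at hw'
      set v : M := (w : M)
      have hv : v ∈ U := w.2
      refine ⟨v⁻¹, c.S_le (c.HS (c.UH (U.inv_mem hv))), ?_⟩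
      rw [Subgroup.mem_centralizer_singleton_iff]
      have key : v⁻¹ * (g * x * g⁻¹) * v = g' * x * g'⁻¹ := by
        have h2 : (g * x * g⁻¹ * x⁻¹) * (v⁻¹ * (x * v * x⁻¹)) = g' * x * g'⁻¹ * x⁻¹ := by
          rw [(hUcomm _ (U.inv_mem hv) _ (hUn.conj_mem _ hv x)).eq, hw']; group
        have h3 := (hUcomm _ (hconjU g) _ (U.inv_mem hv)).eq
        calc v⁻¹ * (g * x * g⁻¹) * v = v⁻¹ * (g * x * g⁻¹ * x⁻¹) * (x * v) := by group
          _ = g * x * g⁻¹ * x⁻¹ * (v⁻¹ * (x * v * x⁻¹)) * x := by rw [← h3]; group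
          _ = g' * x * g'⁻¹ := by rw [h2]; group
      calc g'⁻¹ * v⁻¹ * g * x = g'⁻¹ * (v⁻¹ * (g * x * g⁻¹) * v) * (v⁻¹ * g) := by group
        _ = g'⁻¹ * (g' * x * g'⁻¹) * (v⁻¹ * g) := by rw [key]
        _ = x * (g'⁻¹ * v⁻¹ * g) := by group
  have hW1 : 1 ≤ Nat.card W := Nat.card_pos
  refine small_of_sq ?_ ?_ c.prime.two_le hcard
  · have : Nontrivial W := ⟨⟨u, hu⟩, 0, hu0⟩
    exact Finite.one_lt_card
  · rw [h.index_split (centralizer {x})]
    have h2 : (centralizer {x} ⊔ K0).index * K0.relIndex (centralizer {x}) ≤ Nat.card W - 1 :=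
      (Nat.mul_le_mul_right _ hidx).trans ((mul_comm _ _).le.trans hrel)
    omega

end Cyclic

end CfsgLib.DerangeIndex
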