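import Cfsg.Agent.Lib.DerangeIndex.Lin.Abelian
import Cfsg.Agent.Lib.DerangeIndex.Lin.SympCases
import Cfsg.Agent.Lib.PGroup.SymplecticType

/-!
The linear theorem: the index is small when some element of `K0` fixes a non-zero vector.
-/

set_option autoImplicit false

open MulAction Subgroup
open scoped commutatorElement

namespace CfsgLib.DerangeIndex

variable {M : Type*} [Group M] [Finite M] {V : Type*} [AddCommGroup V] [DistribMulAction M V]
  [Finite V] [Nontrivial V] {p : ℕ} {K0 : Subgroup M}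

/-- The case of a normal `s`-subgroup of symplectic type containing an element with a fixed vector. -/
theorem SympCtx.small {s : ℕ} {S H U : Subgroup M} {z : M} (c : SympCtx s K0 S H U z)
    (h : Setup V p K0) (hirr : Irred M V) {E : Subgroup M} (hEH : E ≤ H) (hsup : H ≤ E ⊔ U)
    (hE : ∀ e ∈ E, (e ^ s) ^ s = 1)
    (hES : ∀ g ∈ S, ∃ e ∈ E, ∀ f ∈ E, Commute (e * g) f)
    {k : M} (hk : k ∈ S) (hks : k ^ s = 1) (hk1 : k ≠ 1) {v : V} (hv : v ≠ 0) (hkv : k • v = v) :
    Small (Nat.card V) K0.index := by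
  classical
  have hkU : k ∉ U := fun hm => hv (c.U_free h hirr hm hk1 hkv)
  by_cases hα : ∃ x ∈ H, x ∉ U ∧ x ^ s = 1
  · obtain ⟨x, hx, hxU, hxs⟩ := hα
    rcases eq_or_lt_of_le c.prime.two_le with h2 | h3
    · subst h2
      by_cases hp : ∃ u : V, u ≠ 0 ∧ x • u = u ∧
          ∃ y ∈ H, Commute x y ∧ y • u = u ∧ y ∉ zpowers x
      · obtain ⟨u, hu, hxu, y, hy, hxy, hyu, hyx⟩ := hp
        exact c.small_of_pair h hirr hx hy hxU hxs hxy hyx hu hxu hyu
      · exact c.small_of_no_pair h hirr hx hxU hxs fun u hu hxu y hy hxy hyu =>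
          by_contra fun hne => hp ⟨u, hu, hxu, y, hy, hxy, hyu, hne⟩
    · exact c.small_of_inner_odd h hirr hx hxU hxs h3
  push Not at hα
  suffices hHU : H ≤ U from c.small_of_outer h hirr (le_antisymm hHU c.UH) hk hkU hks
  by_contra hHU
  obtain ⟨e, he, heU⟩ : ∃ e ∈ E, e ∉ U := by
    by_contra hcon
    push Not at hcon
    exact hHU (hsup.trans (sup_le hcon le_rfl))
  have hez : ∀ f ∈ E, f ^ s ∈ zpowers z := fun f hf =>
    c.torsion _ (c.pow_mem_U f (hEH hf)) (hE f hf)
  have hes : e ^ s ≠ 1 := hα e (hEH he) heU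
  rcases eq_or_lt_of_le c.prime.two_le with h2 | h3
  · subst h2
    have hEz : e ^ 2 = z := (c.eq_or_eq_two (hez e he)).resolve_left hes
    have hUz : U ≤ zpowers z := by
      intro u hu
      by_contra huz
      obtain ⟨j, hj⟩ := IsPGroup.iff_orderOf.1 c.S_pgroup ⟨u, c.HS (c.UH hu)⟩
      rw [orderOf_mk] at hj
      have hj2 : 2 ≤ j := by
        by_contra hlt
        refine huz (c.torsion u hu ?_)
        rw [← orderOf_dvd_iff_pow_eq_one, hj]
        exact (pow_dvd_pow 2 (show j ≤ 1 by omega)).trans (by rw [pow_one])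
      obtain ⟨l, rfl⟩ : ∃ l, j = l + 2 := ⟨j - 2, by omega⟩
      have hi : (u ^ 2 ^ l) ^ 2 ≠ 1 := fun h' => by
        rw [← pow_mul, ← pow_succ] at h'
        have h1 := Nat.le_of_dvd (pow_pos two_pos _) (orderOf_dvd_of_pow_eq_one h')
        rw [hj] at h1
        exact absurd ((Nat.pow_le_pow_iff_right one_lt_two).1 h1) (by omega)
      have hi2 : (u ^ 2 ^ l) ^ 2 = z := by
        refine (c.eq_or_eq_two (c.torsion _ (U.pow_mem (U.pow_mem hu _) _) ?_)).resolve_left hi
        rw [← pow_mul, ← pow_mul, show 2 ^ l * (2 * 2) = 2 ^ (l + 2) by ring, ← hj, pow_orderOf_eq_one]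
      refine hα (e * u ^ 2 ^ l) (H.mul_mem (hEH he) (c.UH (U.pow_mem hu _))) (fun hm => heU ?_) ?_
      · have := U.mul_mem hm (U.inv_mem (U.pow_mem hu (2 ^ l)))
        rwa [mul_inv_cancel_right] at this
      · rw [(c.central _ (U.pow_mem hu _) e (hEH he)).mul_pow, hEz, hi2, ← sq, c.z_pow]
    have hSH : S ≤ H := by
      intro g hg
      obtain ⟨f, hf, hfg⟩ := hES g hg
      have hfgS : f * g ∈ S := S.mul_mem (c.HS (hEH hf)) hg
      have hU' : f * g ∈ U := c.cent _ hfgS fun w hw => by
        have hle : E ⊔ U ≤ centralizer {f * g} := by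
          refine sup_le (fun a ha => Subgroup.mem_centralizer_singleton_iff.2 (hfg a ha).eq.symm)
            fun a ha => Subgroup.mem_centralizer_singleton_iff.2 ?_
          exact (c.commute_z hfgS (hUz ha)).eq.symm
        exact Subgroup.mem_centralizer_singleton_iff.1 (hle (hsup hw))
      have := H.mul_mem (H.inv_mem (hEH hf)) (c.UH hU')
      rwa [inv_mul_cancel_left] at this
    exact hα k (hSH hk) hkU hks
  · obtain ⟨f, hf, hfe⟩ : ∃ f ∈ E, ¬ Commute f e := by
      by_contra hcon
      push Not at hcon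
      refine heU (c.cent e (c.HS (hEH he)) fun w hw => ?_)
      have hle : E ⊔ U ≤ centralizer {e} :=
        sup_le (fun a ha => Subgroup.mem_centralizer_singleton_iff.2 (hcon a ha).eq)
          fun a ha => Subgroup.mem_centralizer_singleton_iff.2 (c.central a ha e (hEH he)).eq.symm
      exact Subgroup.mem_centralizer_singleton_iff.1 (hle (hsup hw))
    obtain ⟨i, hi⟩ : ∃ i : ℕ, (e ^ s) ^ i = f ^ s := mem_powers_iff_mem_zpowers.2 (by
      rw [c.zpowers_eq (hez e he) hes]; exact hez f hf)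
    have := Fact.mk c.prime
    set w := f * (e ^ i)⁻¹
    have hwH : w ∈ H := H.mul_mem (hEH hf) (H.inv_mem (H.pow_mem (hEH he) i))
    have hk' : (e ^ i)⁻¹ ∈ H := H.inv_mem (H.pow_mem (hEH he) i)
    have hc := c.comm _ hk' _ (hEH hf)
    have hws : w ^ s = 1 := by
      rw [CfsgLib.PGroup.SympType.mul_pow_commutator (c.commute_z (c.HS (hEH hf)) hc)
        (c.commute_z (c.HS hk') hc), inv_pow, ← pow_mul, mul_comm i s, pow_mul, hi, mul_inv_cancel,
        mul_one]
      obtain ⟨q, hq⟩ : s ∣ s.choose 2 := c.prime.dvd_choose_self (by norm_num) h3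
      rw [hq, pow_mul, c.zpow_eq_one hc, one_pow]
    by_cases hwU : w ∈ U
    · refine hfe ?_
      have h1 : Commute w e := (c.central w hwU e (hEH he)).symm
      have h2 := h1.mul_left ((Commute.refl e).pow_left i)
      rwa [inv_mul_cancel_right] at h2
    · exact hα w hwH hwU hws

/-- The case of a normal `s`-subgroup containing an element with a fixed vector. -/
theorem Setup.small_of_normal (h : Setup V p K0) (hirr : Irred M V) {s : ℕ} [hs : Fact s.Prime]
    {S : Subgroup M} [hSn : S.Normal] (hSK : S ≤ K0) (hS : IsPGroup s S) {k : M} (hk : k ∈ S)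
    (hks : k ^ s = 1) (hk1 : k ≠ 1) {v : V} (hv : v ≠ 0) (hkv : k • v = v) :
    Small (Nat.card V) K0.index := by
  classical
  by_cases hA : ∃ A : Subgroup S, A.Characteristic ∧ IsMulCommutative A ∧ ¬ IsCyclic A
  · obtain ⟨A, hAc, hAab, hAn⟩ := hA
    let e := A.equivMapOfInjective S.subtype S.subtype_injective
    have : (A.map S.subtype).Normal := ConjAct.normal_of_characteristic_of_normal
    refine h.small_of_abelian hirr (A := A.map S.subtype) ((map_subtype_le A).trans hSK)
      ((hS.to_subgroup A).map _) ?_ fun hc => hAn (e.isCyclic.2 hc)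
    rintro _ ⟨a, ha, rfl⟩ _ ⟨b, hb, rfl⟩
    exact (congrArg (fun w : A => ((w : S) : M)) (hAab.is_comm.comm ⟨a, ha⟩ ⟨b, hb⟩) :)
  push Not at hA
  have hsymp : ∀ A : Subgroup S, A.Characteristic → IsMulCommutative A → IsCyclic A :=
    fun A h1 h2 => hA A h1 h2
  obtain ⟨H, hH, -⟩ := CfsgLib.PGroup.SympType.exists_maximal_crit hS
  obtain ⟨E, hEH, hsup, hEn', hEpow, -, hEcent⟩ := CfsgLib.PGroup.SympType.exists_decomp hS hsymp hH
  obtain ⟨hHc, hHco, hHp, hCH⟩ := hH
  set U := centralizer (H : Set S) with hUdef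
  have hUc : U.Characteristic := inferInstance
  have hUab : IsMulCommutative U := by
    rw [← le_centralizer_iff_isMulCommutative]
    exact le_centralizer_iff.1 (centralizer_le (hCH : (U : Set S) ⊆ H))
  have hUcyc := hsymp U hUc hUab
  have hcomU : ∀ a ∈ H, ∀ u ∈ U, Commute a u := fun a ha u hu => mem_centralizer_iff.1 hu a ha
  have hUne : U ≠ ⊥ := by
    intro hb
    have hHne : H ≠ ⊥ := by
      intro hHb
      have : (⟨k, hk⟩ : S) ∈ U := by
        rw [hUdef, mem_centralizer_iff, hHb]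
        intro w hw
        rw [SetLike.mem_coe, mem_bot] at hw
        simp [hw]
      rw [hb, mem_bot] at this
      exact hk1 (congrArg Subtype.val this)
    have : Nontrivial H := (nontrivial_iff_ne_bot H).2 hHne
    obtain ⟨⟨⟨a, ha⟩, hac⟩, hane⟩ := @exists_ne _ ((hS.to_subgroup H).center_nontrivial) (1 : center H)
    refine hane (Subtype.ext (Subtype.ext ((mem_bot (G := S)).1 (hb ▸ ?_))))
    rw [hUdef, mem_centralizer_iff]
    exact fun y hy => congrArg Subtype.val (mem_center_iff.1 hac ⟨y, hy⟩)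
  obtain ⟨z, hzU, hzc, hz⟩ := CfsgLib.PGroup.exists_central_orderOf_eq hS U hUne
  have hzs : z ^ s = 1 := hz ▸ pow_orderOf_eq_one z
  have hz1 : z ≠ 1 := fun e => hs.out.ne_one (by rw [← hz, e, orderOf_one])
  have htor : ∀ u ∈ U, u ^ s = 1 → u ∈ zpowers z := fun u hu hus =>
    CfsgLib.PGroup.SympType.mem_zpowers_of_cyclic hUcyc hzU hu hzs hz1 hus
  have hzp : ∀ w ∈ zpowers z, S.subtype w ∈ zpowers (z : M) := fun w hw => by
    rw [← S.coe_subtype, ← MonoidHom.map_zpowers]; exact ⟨w, hw, rfl⟩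
  have hmem : ∀ {A : Subgroup S} {w : S}, (w : M) ∈ A.map S.subtype ↔ w ∈ A := fun {A w} =>
    Subgroup.mem_map_iff_mem S.subtype_injective
  have hUMn : (U.map S.subtype).Normal := ConjAct.normal_of_characteristic_of_normal
  have hztor : ∀ u ∈ U.map S.subtype, u ^ s = 1 → u ∈ zpowers (z : M) := by
    rintro _ ⟨u, hu, rfl⟩ hus
    exact hzp u (htor u hu (S.subtype_injective (by rw [map_pow, map_one]; exact hus)))
  have c : SympCtx s K0 S (H.map S.subtype) (U.map S.subtype) (z : M) :=
    { prime := hs.out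
      S_normal := hSn
      S_le := hSK
      S_pgroup := hS
      H_normal := ConjAct.normal_of_characteristic_of_normal
      U_normal := hUMn
      UH := map_mono hCH
      HS := map_subtype_le H
      cent := fun g hg hcom => ⟨⟨g, hg⟩, by
        show (⟨g, hg⟩ : S) ∈ centralizer (H : Set S)
        rw [mem_centralizer_iff]
        exact fun w hw => Subtype.ext (hcom w ⟨w, hw, rfl⟩), rfl⟩
      central := by
        rintro _ ⟨u, hu, rfl⟩ _ ⟨w, hw, rfl⟩
        exact (hcomU w hw u hu).map S.subtype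
      comm := by
        rintro _ ⟨a, ha, rfl⟩ _ ⟨b, hb, rfl⟩
        rw [← map_commutatorElement]
        have h1 : ⁅a, b⁆ ∈ U := (hHco a ha b).2
        refine hzp _ (htor _ h1 ?_)
        rw [← CfsgLib.PGroup.commutator_pow_left a b (hcomU a ha _ h1),
          commutatorElement_eq_one_iff_mul_comm]
        exact (hcomU b hb _ (hHp a ha)).eq.symm
      pow_mem_U := by
        rintro _ ⟨a, ha, rfl⟩
        rw [← map_pow]
        exact ⟨_, hHp a ha, rfl⟩
      z_mem := ⟨z, hzU, rfl⟩
      z_order := by rw [orderOf_coe, hz]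
      z_normal := ⟨fun a ha g => hztor _
        (hUMn.conj_mem a (zpowers_le.2 (⟨z, hzU, rfl⟩ : (z : M) ∈ U.map S.subtype) ha) g) (by
          obtain ⟨i, rfl⟩ := mem_zpowers_iff.1 ha
          have hz' : (z : M) ^ s = 1 := congrArg Subtype.val hzs
          rw [conj_pow, ← zpow_natCast ((z : M) ^ i), ← zpow_mul, mul_comm i, zpow_mul, zpow_natCast,
            hz', one_zpow, mul_one, mul_inv_cancel])⟩
      z_central := fun g hg => congrArg Subtype.val (mem_center_iff.1 hzc ⟨g, hg⟩)
      torsion := hztor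
      cyclic := (U.equivMapOfInjective S.subtype S.subtype_injective).isCyclic.1 hUcyc }
  refine c.small h hirr (E := E.map S.subtype) (map_mono hEH) ?_ ?_ ?_ hk hks hk1 hv hkv
  · rw [← Subgroup.map_sup, hsup]
  · rintro _ ⟨a, ha, rfl⟩
    rw [← map_pow, ← map_pow, (hEpow a ha).2.2, map_one]
  · intro g hg
    have hEn : ∀ a : S, a ∈ E ⊔ centralizer (E : Set S) := fun a => hEcent ▸ mem_top a
    have h1 := hEn ⟨g, hg⟩
    rw [← SetLike.mem_coe, Subgroup.normal_mul] at h1
    obtain ⟨a, ha, w, hw, haw⟩ := h1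
    refine ⟨(a⁻¹ : S), ⟨_, E.inv_mem ha, rfl⟩, ?_⟩
    rintro _ ⟨b, hb, rfl⟩
    have hgw : ((a⁻¹ : S) : M) * g = (w : M) := by
      have h2 : a⁻¹ * ⟨g, hg⟩ = w := by rw [← haw]; exact inv_mul_cancel_left a w
      exact congrArg Subtype.val h2
    show Commute (((a⁻¹ : S) : M) * g) (b : M)
    rw [hgw]
    exact ((Subgroup.mem_centralizer_iff.1 hw b hb).symm |> congrArg Subtype.val :)

/-- The linear theorem. -/
theorem Setup.small (h : Setup V p K0) {k : M} (hk : k ∈ K0) (hk1 : k ≠ 1) {v : V} (hv : v ≠ 0)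
    (hkv : k • v = v) : Small (Nat.card V) K0.index := by
  classical
  have hord : orderOf k ≠ 1 := fun e => hk1 (orderOf_eq_one_iff.1 e)
  set s := (orderOf k).minFac
  have hs : s.Prime := Nat.minFac_prime hord
  have := Fact.mk hs
  obtain ⟨q, hq⟩ := Nat.minFac_dvd (orderOf k)
  have hq0 : 0 < q := Nat.pos_of_ne_zero (by rintro rfl; exact (orderOf_pos k).ne' hq)
  set x := k ^ q with hx
  have hxs : x ^ s = 1 := by rw [hx, ← pow_mul, mul_comm, ← hq, pow_orderOf_eq_one]
  have hx1 : x ≠ 1 := by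
    intro e
    have h1 := Nat.le_of_dvd hq0 (orderOf_dvd_of_pow_eq_one e)
    rw [hq] at h1
    nlinarith [hs.two_le]
  have hxK : x ∈ K0 := K0.pow_mem hk q
  have hxv : x • v = v := pow_mem (show k ∈ stabilizer M v from hkv) q
  have hKn := h.normal
  have hxp : IsPGroup s (zpowers (⟨x, hxK⟩ : K0)) :=
    IsPGroup.of_card (n := 1) (by
      rw [pow_one, Nat.card_zpowers]
      exact orderOf_eq_prime (Subtype.ext hxs) fun e => hx1 (congrArg Subtype.val e))
  obtain ⟨S0, hS0⟩ := hxp.exists_le_sylow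
  have hfr := Sylow.normalizer_sup_eq_top S0
  set S1 : Subgroup M := (S0 : Subgroup K0).map K0.subtype
  set M' : Subgroup M := Subgroup.normalizer (S1 : Set M)
  have hS1M : S1 ≤ M' := le_normalizer
  set K' : Subgroup M' := K0.subgroupOf M'
  have hidx : K'.index = K0.index := by
    show K0.relIndex M' = K0.index
    rw [← relIndex_sup_right (K := K0) (H := M'), hfr, relIndex_top_right]
  have hK' : Setup V p K' :=
    { normal := hKn.subgroupOf M'
      prime := h.prime
      exp := h.exp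
      coprime := fun hd => h.coprime (hd.trans (card_comap_dvd_of_injective K0 M'.subtype M'.subtype_injective))
      faithful := fun g hg => Subtype.ext (h.faithful g hg)
      free := fun g hg w hw => h.free g hg w hw }
  rw [← hidx]
  by_cases hirr : Irred M' V
  · have : (S1.subgroupOf M').Normal := normal_in_normalizer
    exact hK'.small_of_normal hirr (S := S1.subgroupOf M')
      (fun a ha => (map_subtype_le (S0 : Subgroup K0)) ha)
      ((S0.isPGroup'.map K0.subtype).comap_of_injective M'.subtype M'.subtype_injective)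
      (k := ⟨x, hS1M ⟨⟨x, hxK⟩, hS0 (mem_zpowers _), rfl⟩⟩) ⟨⟨x, hxK⟩, hS0 (mem_zpowers _), rfl⟩
      (Subtype.ext hxs) (fun e => hx1 (congrArg Subtype.val e)) hv hxv
  · simp only [Irred, not_forall, not_or] at hirr
    obtain ⟨W, hW, hW0, hW1⟩ := hirr
    exact Or.inl (hK'.sq_le_of_reducible hW hW0 hW1)

end CfsgLib.DerangeIndex
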