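import Cfsg.Agent.Lib.DerangeIndex.Arith
import Mathlib.GroupTheory.GroupAction.Quotient
import Mathlib.GroupTheory.Index
import Mathlib.Algebra.BigOperators.Group.Finset.Piecewise
import Mathlib.Data.ZMod.Basic
import Mathlib.GroupTheory.Perm.Cycle.Type
import Mathlib.GroupTheory.OrderOfElement
import Mathlib.GroupTheory.Sylow

/-!
Basic tools for a finite group acting linearly with a normal subgroup outside of which every
element fixes only zero.
-/

set_option autoImplicit false

open MulAction Subgroup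

namespace CfsgLib.DerangeIndex

variable {M : Type*} [Group M] {V : Type*} [AddCommGroup V] [DistribMulAction M V]

variable (V) in
/-- The standing hypotheses. -/
structure Setup (p : ℕ) (K0 : Subgroup M) : Prop where
  normal : K0.Normal
  prime : p.Prime
  exp : ∀ v : V, p • v = 0
  coprime : ¬ p ∣ Nat.card K0
  faithful : ∀ g : M, (∀ v : V, g • v = v) → g = 1
  free : ∀ g : M, g ∉ K0 → ∀ v : V, g • v = v → v = 0

variable (M V) in
/-- No proper non-zero invariant subgroup. -/
def Irred : Prop :=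
  ∀ U : AddSubgroup V, (∀ g : M, ∀ u ∈ U, g • u ∈ U) → U = ⊥ ∨ U = ⊤

variable (V) in
/-- The vectors fixed by a subgroup. -/
def fixSub (B : Subgroup M) : AddSubgroup V where
  carrier := {v | ∀ b ∈ B, b • v = v}
  zero_mem' := fun b _ => smul_zero b
  add_mem' := fun ha hb b hbB => by rw [smul_add, ha b hbB, hb b hbB]
  neg_mem' := fun ha b hbB => by rw [smul_neg, ha b hbB]

theorem mem_fixSub {B : Subgroup M} {v : V} : v ∈ fixSub V B ↔ ∀ b ∈ B, b • v = v := Iff.rfl

theorem fixSub_zpowers {x : M} {v : V} : v ∈ fixSub V (zpowers x) ↔ x • v = v := by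
  refine ⟨fun h => h x (mem_zpowers x), fun h b hb => ?_⟩
  exact (zpowers_le.2 (show x ∈ stabilizer M v from h)) hb

theorem fixSub_anti {B C : Subgroup M} (h : B ≤ C) : fixSub V C ≤ fixSub V B :=
  fun _ hv b hb => hv b (h hb)

theorem smul_mem_fixSub {B : Subgroup M} {g : M} (hg : g ∈ Subgroup.normalizer (B : Set M))
    {v : V} (hv : v ∈ fixSub V B) : g • v ∈ fixSub V B := by
  intro b hb
  have h1 : g⁻¹ * b * g ∈ B := (Subgroup.mem_normalizer_iff.1 hg _).2 (by simpa [mul_assoc] using hb)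
  have h2 := congrArg (g • ·) (hv _ h1)
  simpa [smul_smul, mul_assoc] using h2

namespace Setup

variable {p : ℕ} {K0 : Subgroup M} (h : Setup V p K0)
include h

theorem fixSub_eq_bot_of_normal (hirr : Irred M V) {B : Subgroup M} [B.Normal] (hB : B ≠ ⊥) :
    fixSub V B = ⊥ := by
  refine (hirr _ fun g u hu => smul_mem_fixSub (by rw [normalizer_eq_top]; exact mem_top g) hu
    ).resolve_right fun htop => hB ?_
  rw [Subgroup.eq_bot_iff_forall]
  exact fun b hb => h.faithful b fun v => (htop ▸ AddSubgroup.mem_top v : v ∈ fixSub V B) b hb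

theorem eq_zero_of_nsmul {c : ℕ} (hc : ¬ p ∣ c) {v : V} (hv : c • v = 0) : v = 0 := by
  have h1 : addOrderOf v ∣ Nat.gcd c p :=
    Nat.dvd_gcd (addOrderOf_dvd_of_nsmul_eq_zero hv) (addOrderOf_dvd_of_nsmul_eq_zero (h.exp v))
  rw [((h.prime.coprime_iff_not_dvd).2 hc).symm.gcd_eq_one, Nat.dvd_one,
    AddMonoid.addOrderOf_eq_one_iff] at h1
  exact h1

theorem not_dvd_card {B : Subgroup M} (hB : B ≤ K0) : ¬ p ∣ Nat.card B :=
  fun hd => h.coprime (hd.trans (Subgroup.card_dvd_of_le hB))

theorem ne_of_orderOf {x : M} (hx : x ∈ K0) {s : ℕ} (hs : orderOf x = s) : ¬ p ∣ s := by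
  rw [← hs, ← Nat.card_zpowers]
  exact h.not_dvd_card (zpowers_le.2 hx)

variable [Finite M] [Finite V]

/-- The orbit bound. -/
theorem relIndex_mul_card_le {Y X : Subgroup M} (hXY : X ≤ Y) (hX0 : X ≤ K0) {U : AddSubgroup V}
    (hU : ∀ y ∈ Y, ∀ v ∈ U, y • v ∈ U) {u : V} (huU : u ∈ U) (hu : u ≠ 0) :
    K0.relIndex Y * Nat.card X ≤ (Nat.card U - 1) * Nat.card (X ⊓ stabilizer M u : Subgroup M) := by
  set T := Y ⊓ stabilizer M u with hT
  have hTK : T ≤ K0 := fun y hy => by
    by_contra hy0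
    exact hu (h.free y hy0 u hy.2)
  have h1 : T.relIndex (Y ⊓ K0) * K0.relIndex Y = T.relIndex Y := by
    rw [← inf_relIndex_left (H := Y) (K := K0) |> fun e => e, relIndex_mul_relIndex _ _ _
      (le_inf inf_le_left hTK) inf_le_left]
  have h2 : T.relIndex X ≤ T.relIndex (Y ⊓ K0) :=
    relIndex_le_of_le_right (le_inf hXY hX0) Subgroup.index_ne_zero_of_finite
  have h3 : T.relIndex Y ≤ Nat.card U - 1 := by
    have hst : stabilizer Y u = T.subgroupOf Y := by
      ext y
      exact ⟨fun hy => ⟨y.2, hy⟩, fun hy => hy.2⟩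
    rw [relIndex, ← hst, index_stabilizer]
    have hsub : orbit Y u ⊆ (U : Set V) \ {0} := by
      rintro _ ⟨⟨y, hy⟩, rfl⟩
      refine ⟨hU y hy u huU, fun h0 => hu ?_⟩
      exact (smul_eq_zero_iff_eq y).1 h0
    refine (Set.ncard_le_ncard hsub (Set.toFinite _)).trans ?_
    rw [Set.ncard_sdiff_singleton_of_mem U.zero_mem, ← Nat.card_coe_set_eq]
    exact le_rfl
  have h4 : T.relIndex X * Nat.card (X ⊓ stabilizer M u : Subgroup M) = Nat.card X := by
    have he := relIndex_mul_relIndex ⊥ (X ⊓ stabilizer M u) X bot_le inf_le_left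
    rw [relIndex_bot_left, relIndex_bot_left, inf_relIndex_left] at he
    rw [show T.relIndex X = (stabilizer M u).relIndex X by
      rw [← inf_relIndex_right T X, ← inf_relIndex_right (stabilizer M u) X, hT]
      congr 1
      exact le_antisymm (fun y hy => ⟨hy.1.2, hy.2⟩) (fun y hy => ⟨⟨hXY hy.2, hy.1⟩, hy.2⟩),
      mul_comm, he]
  rw [← h4, ← mul_assoc]
  refine Nat.mul_le_mul_right _ ?_
  rw [mul_comm]
  exact (Nat.mul_le_mul_right _ h2).trans (h1.le.trans h3)

omit h in
theorem index_le_of_inj {Y : Subgroup M} {β : Type*} [Finite β] (f : M → β)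
    (hf : ∀ g g', f g = f g' → g⁻¹ * g' ∈ Y) : Y.index ≤ Nat.card β := by
  refine Nat.card_le_card_of_injective (fun q : M ⧸ Y => f q.out) fun q q' he => ?_
  rw [← q.out_eq', ← q'.out_eq', QuotientGroup.eq]
  exact hf _ _ he

omit h in
theorem index_le_ncard {Y : Subgroup M} {β : Type*} (s : Set β) (hs : s.Finite) (f : M → β)
    (hfs : ∀ g, f g ∈ s) (hf : ∀ g g', f g = f g' → g⁻¹ * g' ∈ Y) : Y.index ≤ s.ncard := by
  have := hs.to_subtype
  rw [← Nat.card_coe_set_eq]
  exact index_le_of_inj (fun g => (⟨f g, hfs g⟩ : s)) fun g g' he => hf g g' (congrArg Subtype.val he)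

theorem index_split (Y : Subgroup M) : K0.index = (Y ⊔ K0).index * K0.relIndex Y := by
  have := h.normal
  rw [← relIndex_sup_right (K := K0) (H := Y), mul_comm, relIndex_mul_index le_sup_right]

/-- Bounding the part of the index outside a centralizer. -/
theorem index_sup_le {Y : Subgroup M} {β : Type*} (s : Set β) (hs : s.Finite) (f : M → β)
    (hfs : ∀ g, f g ∈ s) (hf : ∀ g g', f g = f g' → ∃ t ∈ K0, g'⁻¹ * t * g ∈ Y) :
    (Y ⊔ K0).index ≤ s.ncard := by
  refine index_le_ncard s hs f hfs fun g g' he => ?_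
  obtain ⟨t, ht, htY⟩ := hf g' g he.symm
  have h1 : g⁻¹ * t⁻¹ * g ∈ K0 := by
    simpa using h.normal.conj_mem _ (K0.inv_mem ht) g⁻¹
  have h2 := (Y ⊔ K0).mul_mem (mem_sup_right h1) (mem_sup_left htY)
  simpa [mul_assoc] using h2

/-- The bound in the reducible case. -/
theorem sq_le_of_reducible {U : AddSubgroup V} (hU : ∀ g : M, ∀ u ∈ U, g • u ∈ U) (h0 : U ≠ ⊥)
    (h1 : U ≠ ⊤) : (K0.index + 1) ^ 2 ≤ Nat.card V := by
  rw [AddSubgroup.card_eq_card_quotient_mul_card_addSubgroup U, sq]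
  refine Nat.mul_le_mul ?_ ?_
  · obtain ⟨v, hv⟩ : ∃ v, v ∉ U := by
      by_contra hall
      push Not at hall
      exact h1 (AddSubgroup.eq_top_iff' U |>.2 hall)
    have hle : K0.index ≤ (Set.univ \ {(0 : V ⧸ U)}).ncard := by
      refine index_le_ncard _ (Set.toFinite _) (fun g => ((g • v : V) : V ⧸ U))
        (fun g => ⟨trivial, fun h0' => hv ?_⟩) fun g g' he => ?_
      · have h2 := hU g⁻¹ _ ((QuotientAddGroup.eq_zero_iff _).1 h0')
        rwa [inv_smul_smul] at h2
      · rw [QuotientAddGroup.eq] at he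
        by_contra hgg
        set x := g⁻¹ * g'
        have h3 : x • v - v ∈ U := by
          have h4 := hU g⁻¹ _ he
          rwa [smul_add, smul_neg, inv_smul_smul, smul_smul, neg_add_eq_sub] at h4
        have hinj : Function.Injective (fun u : U => (⟨x • (u : V) - u, U.sub_mem (hU x u u.2) u.2⟩ : U)) := by
          intro a b hab
          have h5 := congrArg Subtype.val hab
          simp only at h5
          have h6 : x • ((a : V) - b) = (a : V) - b := by
            rw [smul_sub, sub_eq_sub_iff_sub_eq_sub.1 h5]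
          exact Subtype.ext (sub_eq_zero.1 (h.free x hgg _ h6))
        obtain ⟨u, hu⟩ := (Finite.injective_iff_surjective.1 hinj) ⟨_, h3⟩
        have h7 : x • (v - u) = v - u := by
          rw [smul_sub]
          have h8 : x • (u : V) - u = x • v - v := congrArg Subtype.val hu
          rw [sub_eq_sub_iff_sub_eq_sub.1 h8.symm]
        exact hv (by rw [sub_eq_zero.1 (h.free x hgg _ h7)]; exact u.2)
    rw [Set.ncard_sdiff_singleton_of_mem (Set.mem_univ _), Set.ncard_univ] at hle
    have : 0 < Nat.card (V ⧸ U) := Nat.card_pos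
    omega
  · obtain ⟨u, hu, hu0⟩ := U.ne_bot_iff_exists_ne_zero.1 h0 |> fun ⟨⟨u, hu⟩, hne⟩ =>
      (⟨u, hu, fun e => hne (Subtype.ext e)⟩ : ∃ u ∈ U, u ≠ 0)
    have h2 := h.relIndex_mul_card_le (Y := ⊤) (X := ⊥) le_top bot_le (fun y _ => hU y) hu hu0
    rw [bot_inf_eq, Subgroup.card_bot, mul_one, mul_one, relIndex_top_right] at h2
    have : 0 < Nat.card U := Nat.card_pos
    omega

open Classical in
/-- Independence of the fixed spaces of commuting subgroups meeting pairwise in zero. -/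
theorem prod_card_fixSub_le {ι : Type*} [Fintype ι] (B : ι → Subgroup M) (hB : ∀ i, B i ≤ K0)
    (hcomm : ∀ i j, ∀ b ∈ B i, ∀ c ∈ B j, Commute b c)
    (hpair : ∀ i j, i ≠ j → Disjoint (fixSub V (B i)) (fixSub V (B j))) :
    ∏ i, Nat.card (fixSub V (B i)) ≤ Nat.card V := by
  rw [← Nat.card_pi]
  let S : (∀ i, fixSub V (B i)) →+ V :=
    AddMonoidHom.mk' (fun f => ∑ i, (f i : V)) fun f f' => by
      simp [Finset.sum_add_distrib]
  refine Nat.card_le_card_of_injective S ((injective_iff_map_eq_zero S).2 fun f hf => funext fun i => ?_)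
  apply Subtype.ext
  have := Fintype.ofFinite (B i)
  refine h.eq_zero_of_nsmul (h.not_dvd_card (hB i)) ?_
  have h1 : ∀ j, j ≠ i → (∑ b : B i, (b : M) • (f j : V)) = 0 := by
    intro j hj
    refine (AddSubgroup.disjoint_def.1 (hpair i j (Ne.symm hj))) ?_ ?_
    · intro c hc
      rw [Finset.smul_sum]
      exact Fintype.sum_equiv (Equiv.mulLeft (⟨c, hc⟩ : B i)) _ _ fun b => by
        simp [mul_smul]
    · intro c hc
      rw [Finset.smul_sum]
      refine Finset.sum_congr rfl fun b _ => ?_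
      rw [← mul_smul, ← (hcomm i j b b.2 c hc).eq, mul_smul, (f j).2 c hc]
  have h2 : ∑ b : B i, (b : M) • (∑ j, (f j : V)) = ∑ b : B i, (b : M) • (f i : V) := by
    simp only [Finset.smul_sum]
    rw [Finset.sum_comm, Finset.sum_eq_single i (fun j _ hj => h1 j hj) (by simp)]
  rw [show ∑ j, (f j : V) = 0 from hf] at h2
  simp only [smul_zero, Finset.sum_const_zero] at h2
  rw [Nat.card_eq_fintype_card]
  rw [Finset.sum_congr rfl (fun (b : B i) _ => (f i).2 b b.2), Finset.sum_const,
    Finset.card_univ] at h2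
  exact h2.symm

omit [Finite M] [Finite V] in
/-- Some translate of `x` by a power of a fixed-point-free `z` fixes a non-zero vector. -/
theorem exists_fixed_translate [Nontrivial V] {x z : M} {s : ℕ} (hs : s.Prime) (hps : ¬ p ∣ s)
    (hxz : Commute x z) (hx : x ^ s = 1) (hz : z ^ s = 1) (hzfree : ∀ v : V, z • v = v → v = 0) :
    ∃ i < s, ∃ v : V, v ≠ 0 ∧ (x * z ^ i) • v = v := by
  by_contra hcon
  push Not at hcon
  obtain ⟨v, hv⟩ := exists_ne (0 : V)
  refine hv (h.eq_zero_of_nsmul hps ?_)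
  have hfix : ∀ (a : M), a ^ s = 1 → ∀ w : V,
      a • (∑ j ∈ Finset.range s, a ^ j • w) = ∑ j ∈ Finset.range s, a ^ j • w := by
    intro a ha w
    have h1 := Finset.sum_range_succ (fun j => a ^ j • w) s
    have h2 := Finset.sum_range_succ' (fun j => a ^ j • w) s
    rw [h1, ha, pow_zero] at h2
    rw [Finset.smul_sum]
    simp only [smul_smul, ← pow_succ']
    exact (add_right_cancel h2).symm
  have hA : ∀ i ∈ Finset.range s, ∑ j ∈ Finset.range s, (x * z ^ i) ^ j • v = 0 := by
    intro i hi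
    by_contra hne
    refine hcon i (Finset.mem_range.1 hi) _ hne (hfix _ ?_ v)
    rw [(hxz.pow_right i).mul_pow, hx, one_mul, ← pow_mul, mul_comm, pow_mul, hz, one_pow]
  have hz' : ∀ j ∈ Finset.range s, j ≠ 0 → ∀ w : V, ∑ i ∈ Finset.range s, (z ^ i) ^ j • w = 0 := by
    intro j hj hj0 w
    have hs0 : (z ^ j) ^ s = 1 := by rw [← pow_mul, mul_comm, pow_mul, hz, one_pow]
    have h1 := hfix _ hs0 w
    obtain ⟨c, hc⟩ : ∃ c : ℕ, (z ^ j) ^ c = z := by
      obtain ⟨c, hc⟩ := Nat.exists_mul_mod_eq_one_of_coprime (n := j) (k := s)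
        (Nat.coprime_comm.1 ((hs.coprime_iff_not_dvd).2 fun hd =>
          hj0 (Nat.eq_zero_of_dvd_of_lt hd (Finset.mem_range.1 hj)))) hs.one_lt
      refine ⟨c, ?_⟩
      rw [← pow_mul, pow_eq_pow_mod _ hz, hc.2, pow_one]
    have h2 : z • (∑ i ∈ Finset.range s, (z ^ j) ^ i • w) = ∑ i ∈ Finset.range s, (z ^ j) ^ i • w := by
      conv_lhs => arg 1; rw [← hc]
      exact (show z ^ j ∈ stabilizer M _ from h1) |> fun hm => pow_mem hm c
    simp only [← pow_mul, mul_comm _ j]
    simp only [pow_mul]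
    exact hzfree _ h2
  have hsum : ∑ i ∈ Finset.range s, ∑ j ∈ Finset.range s, (x * z ^ i) ^ j • v = 0 :=
    Finset.sum_eq_zero hA
  rw [Finset.sum_comm, Finset.sum_eq_single 0] at hsum
  · simpa using hsum
  · intro j hj hj0
    calc ∑ i ∈ Finset.range s, (x * z ^ i) ^ j • v
        = ∑ i ∈ Finset.range s, (z ^ i) ^ j • x ^ j • v := by
          refine Finset.sum_congr rfl fun i _ => ?_
          rw [(hxz.pow_right i).mul_pow, ← mul_smul]
          exact congrArg (· • v) ((hxz.pow_pow j i |>.pow_right j)).eq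
      _ = 0 := hz' j hj hj0 _
  · intro h0
    exact absurd (Finset.mem_range.2 hs.pos) h0

end Setup

end CfsgLib.DerangeIndex
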