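import Cfsg.Agent.Lib.DerangeIndex.Lin.Basic
import Mathlib.LinearAlgebra.Dimension.Finite
import Mathlib.LinearAlgebra.FreeModule.Finite.Matrix
import Mathlib.Algebra.Module.ZMod
import Mathlib.GroupTheory.Commutator.Basic
import Mathlib.FieldTheory.Finite.Basic

/-!
Context for a normal subgroup of symplectic type: fixed-point-freeness and the bound on `H/U`.
-/

set_option autoImplicit false

open MulAction Subgroup
open scoped commutatorElement

namespace CfsgLib.DerangeIndex

variable {M : Type*} [Group M]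

/-- The facts used about `H`, its centralizer `U` in the normal `s`-subgroup `S`, and `z`. -/
structure SympCtx (s : ℕ) (K0 S H U : Subgroup M) (z : M) : Prop where
  prime : s.Prime
  S_normal : S.Normal
  S_le : S ≤ K0
  S_pgroup : IsPGroup s S
  H_normal : H.Normal
  U_normal : U.Normal
  UH : U ≤ H
  HS : H ≤ S
  cent : ∀ g ∈ S, (∀ h ∈ H, h * g = g * h) → g ∈ U
  central : ∀ u ∈ U, ∀ h ∈ H, Commute h u
  comm : ∀ h ∈ H, ∀ h' ∈ H, ⁅h, h'⁆ ∈ zpowers z
  pow_mem_U : ∀ h ∈ H, h ^ s ∈ U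
  z_mem : z ∈ U
  z_order : orderOf z = s
  z_normal : (zpowers z).Normal
  z_central : ∀ g ∈ S, Commute g z
  torsion : ∀ u ∈ U, u ^ s = 1 → u ∈ zpowers z
  cyclic : IsCyclic U

namespace SympCtx

variable {s : ℕ} {K0 S H U : Subgroup M} {z : M} (c : SympCtx s K0 S H U z)
include c

theorem z_pow : z ^ s = 1 := c.z_order ▸ pow_orderOf_eq_one z

theorem zpow_eq_one {a : M} (ha : a ∈ zpowers z) : a ^ s = 1 := by
  obtain ⟨i, rfl⟩ := mem_zpowers_iff.1 ha
  rw [← zpow_natCast, ← zpow_mul, mul_comm, zpow_mul, zpow_natCast, c.z_pow, one_zpow]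

theorem z_le : zpowers z ≤ U := zpowers_le.2 c.z_mem

theorem zpowers_eq [Finite M] {a : M} (ha : a ∈ zpowers z) (ha1 : a ≠ 1) :
    zpowers a = zpowers z := by
  have := Fact.mk c.prime
  refine eq_of_le_of_card_ge (zpowers_le.2 ha) ?_
  rw [Nat.card_zpowers, Nat.card_zpowers, c.z_order, orderOf_eq_prime (c.zpow_eq_one ha) ha1]

theorem commute_z {g a : M} (hg : g ∈ S) (ha : a ∈ zpowers z) : Commute g a := by
  obtain ⟨i, rfl⟩ := mem_zpowers_iff.1 ha
  exact (c.z_central g hg).zpow_right i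

theorem exists_noncentral {x : M} (hx : x ∈ H) (hxU : x ∉ U) :
    ∃ g ∈ H, ⁅g, x⁆ ≠ 1 ∧ ⁅g, x⁆ ∈ zpowers z := by
  by_contra hcon
  push Not at hcon
  refine hxU (c.cent x (c.HS hx) fun h hh => ?_)
  by_contra hne
  exact hcon h hh (fun he => hne (commutatorElement_eq_one_iff_mul_comm.1 he)) (c.comm h hh x hx)

/-- Conjugation by the powers of `g` multiplies `x` by the powers of the commutator. -/
theorem conj_pow_eq {g x a : M} (hg : g ∈ S) (ha : a ∈ zpowers z) (hgx : g * x * g⁻¹ = a * x)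
    (i : ℕ) : g ^ i * x * (g ^ i)⁻¹ = a ^ i * x := by
  induction i with
  | zero => simp
  | succ i ih =>
    calc g ^ (i + 1) * x * (g ^ (i + 1))⁻¹ = g * (g ^ i * x * (g ^ i)⁻¹) * g⁻¹ := by
          rw [pow_succ']; group
      _ = (g * a ^ i * g⁻¹) * (g * x * g⁻¹) := by rw [ih]; group
      _ = a ^ i * (a * x) := by
          rw [(c.commute_z hg (pow_mem ha i)).eq, mul_inv_cancel_right, hgx]
      _ = a ^ (i + 1) * x := by rw [pow_succ, mul_assoc]

theorem exists_conj [Finite M] {x a : M} (hx : x ∈ H) (hxU : x ∉ U) (ha : a ∈ zpowers z) :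
    ∃ t ∈ H, t * x * t⁻¹ = a * x := by
  classical
  obtain ⟨g, hg, hne, hmem⟩ := c.exists_noncentral hx hxU
  have hgx : g * x * g⁻¹ = ⁅g, x⁆ * x := by rw [commutatorElement_def]; group
  rw [← c.zpowers_eq hmem hne] at ha
  obtain ⟨i, rfl⟩ : ∃ i : ℕ, ⁅g, x⁆ ^ i = a :=
    (mem_powers_iff_mem_zpowers).2 ha
  exact ⟨g ^ i, H.pow_mem hg i, c.conj_pow_eq (c.HS hg) hmem hgx i⟩

theorem conj_mem_H {g x : M} (hx : x ∈ H) : g * x * g⁻¹ ∈ H := c.H_normal.conj_mem x hx g

theorem conj_not_mem_U {g x : M} (hxU : x ∉ U) : g * x * g⁻¹ ∉ U := fun hm => hxU (by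
  simpa [mul_assoc] using c.U_normal.conj_mem _ hm g⁻¹)

variable [Finite M] {V : Type*} [AddCommGroup V] [DistribMulAction M V] {p : ℕ}
  (h : Setup V p K0) (hirr : Irred M V)
include h hirr

theorem z_free {a : M} (ha : a ∈ zpowers z) (ha1 : a ≠ 1) {v : V} (hv : a • v = v) : v = 0 := by
  have := c.z_normal
  have hbot : zpowers z ≠ ⊥ := by
    rw [← c.zpowers_eq ha ha1, ne_eq, zpowers_eq_bot]; exact ha1
  have h1 : v ∈ fixSub V (zpowers z) := by
    rw [← c.zpowers_eq ha ha1]; exact fixSub_zpowers.2 hv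
  rwa [h.fixSub_eq_bot_of_normal hirr hbot, AddSubgroup.mem_bot] at h1

theorem U_free {u : M} (hu : u ∈ U) (hu1 : u ≠ 1) {v : V} (hv : u • v = v) : v = 0 := by
  have := Fact.mk c.prime
  obtain ⟨k, hk⟩ := IsPGroup.iff_orderOf.1 c.S_pgroup ⟨u, c.HS (c.UH hu)⟩
  rw [orderOf_mk] at hk
  have hk0 : k ≠ 0 := by
    rintro rfl
    exact hu1 (orderOf_eq_one_iff.1 (by rw [hk, pow_zero]))
  obtain ⟨j, rfl⟩ := Nat.exists_eq_succ_of_ne_zero hk0
  refine c.z_free h hirr (a := u ^ s ^ j) (c.torsion _ (U.pow_mem hu _) ?_) ?_ ?_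
  · rw [← pow_mul, ← pow_succ, ← hk, pow_orderOf_eq_one]
  · intro he
    have h1 := Nat.le_of_dvd (pow_pos c.prime.pos j) (orderOf_dvd_of_pow_eq_one he)
    rw [hk] at h1
    exact absurd ((Nat.pow_le_pow_iff_right c.prime.one_lt).1 h1) (by omega)
  · exact pow_mem (show u ∈ stabilizer M v from hv) _

variable [Finite V] [Nontrivial V]

/-- The fixed space of `x` when some element of `S` multiplies it by an element of order `s` of
`⟨z⟩`. -/
theorem translates {x g a : M} (hxS : x ∈ S) (hx : x ^ s = 1) (hg : g ∈ S) (ha : a ∈ zpowers z)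
    (ha1 : a ≠ 1) (hgx : g * x * g⁻¹ = a * x) :
    fixSub V (zpowers x) ≠ ⊥ ∧ Nat.card (fixSub V (zpowers x)) ^ s ≤ Nat.card V := by
  have hxa : Commute x a := c.commute_z hxS ha
  have hconj : ∀ (i : ℕ) (w : V), (a ^ i * x) • w = w ↔ x • ((g ^ i)⁻¹ • w) = (g ^ i)⁻¹ • w := by
    intro i w
    rw [← c.conj_pow_eq hg ha hgx i, mul_smul, mul_smul, smul_eq_iff_eq_inv_smul]
  constructor
  · obtain ⟨i, -, v, hv, hfix⟩ := h.exists_fixed_translate c.prime
      (h.ne_of_orderOf (c.S_le (c.HS (c.UH c.z_mem))) c.z_order) hxa hx (c.zpow_eq_one ha)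
      (fun w hw => c.z_free h hirr ha ha1 hw)
    intro hbot
    have h1 : (g ^ i)⁻¹ • v ∈ fixSub V (zpowers x) :=
      fixSub_zpowers.2 ((hconj i v).1 (by rwa [← (hxa.pow_right i).eq]))
    rw [hbot, AddSubgroup.mem_bot, smul_eq_zero_iff_eq] at h1
    exact hv h1
  · have hcards : ∀ i : Fin s, Nat.card (fixSub V (zpowers (a ^ (i : ℕ) * x))) =
        Nat.card (fixSub V (zpowers x)) := fun i => Nat.card_congr
      { toFun := fun w => ⟨(g ^ (i : ℕ))⁻¹ • (w : V),
          fixSub_zpowers.2 ((hconj i w).1 (fixSub_zpowers.1 w.2))⟩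
        invFun := fun w => ⟨g ^ (i : ℕ) • (w : V), fixSub_zpowers.2 ((hconj i _).2 (by
          rw [inv_smul_smul]; exact fixSub_zpowers.1 w.2))⟩
        left_inv := fun w => Subtype.ext (smul_inv_smul _ (w : V))
        right_inv := fun w => Subtype.ext (inv_smul_smul _ (w : V)) }
    have h1 := h.prod_card_fixSub_le (V := V) (fun i : Fin s => zpowers (a ^ (i : ℕ) * x))
      (fun i => zpowers_le.2 (K0.mul_mem (K0.pow_mem (c.S_le (c.HS (c.UH (c.z_le ha)))) _)
        (c.S_le hxS))) ?_ ?_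
    · rwa [Finset.prod_congr rfl (fun i _ => hcards i), Finset.prod_const, Finset.card_univ,
        Fintype.card_fin] at h1
    · rintro i j _ ⟨m, rfl⟩ _ ⟨l, rfl⟩
      refine Commute.zpow_zpow ?_ m l
      exact (((Commute.refl a).pow_pow _ _).mul_left (hxa.pow_right _)).mul_right
        ((hxa.symm.pow_left _).mul_left (Commute.refl x))
    · intro i j hij
      refine AddSubgroup.disjoint_def.2 fun {w} hwi hwj => ?_
      have hi := fixSub_zpowers.1 hwi
      have hj := fixSub_zpowers.1 hwj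
      set b := (a ^ (i : ℕ))⁻¹ * a ^ (j : ℕ)
      have hb : b ∈ zpowers z := (zpowers z).mul_mem ((zpowers z).inv_mem (pow_mem ha _)) (pow_mem ha _)
      refine c.z_free h hirr hb (fun he => hij (Fin.ext ?_)) ?_
      · have h2 : a ^ (i : ℕ) = a ^ (j : ℕ) := inv_mul_eq_one.1 he
        have := Fact.mk c.prime
        exact pow_injOn_Iio_orderOf (by rw [Set.mem_Iio, orderOf_eq_prime (c.zpow_eq_one ha) ha1]; exact i.2)
          (by rw [Set.mem_Iio, orderOf_eq_prime (c.zpow_eq_one ha) ha1]; exact j.2) h2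
      · have h2 : x • w = (a ^ (i : ℕ))⁻¹ • w := by
          rw [eq_inv_smul_iff, ← mul_smul, hi]
        have h3 : a ^ (j : ℕ) • (a ^ (i : ℕ))⁻¹ • w = w := by rw [← h2, ← mul_smul, hj]
        rw [show b = a ^ (j : ℕ) * (a ^ (i : ℕ))⁻¹ from
          ((Commute.refl a).pow_pow _ _).inv_left.eq, mul_smul, h3]

/-- Independence of coset representatives with injective commuting coefficients. -/
theorem coeff_eq_empty (t : Finset M) (ht : ∀ x ∈ t, x ∈ H)
    (hdis : ∀ x ∈ t, ∀ y ∈ t, x⁻¹ * y ∈ U → x = y) (f : M → (V →+ V))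
    (hinj : ∀ x ∈ t, Function.Injective (f x))
    (hcom : ∀ x ∈ t, ∀ g ∈ H, ∀ v : V, f x (g • v) = g • f x v)
    (hsum : ∀ v : V, ∑ x ∈ t, f x (x • v) = 0) : t = ∅ := by
  classical
  induction t using Finset.strongInduction generalizing f with
  | _ t ih =>
    rcases t.eq_empty_or_nonempty with h0 | ⟨x, hx⟩
    · exact h0
    by_cases hone : t = {x}
    · subst hone
      obtain ⟨v, hv⟩ := exists_ne (0 : V)
      have h1 := hsum v
      rw [Finset.sum_singleton, ← map_zero (f x)] at h1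
      exact absurd ((smul_eq_zero_iff_eq x).1 (hinj x (Finset.mem_singleton_self x) h1)) hv
    obtain ⟨y, hy, hxy⟩ : ∃ y ∈ t, y ≠ x := by
      by_contra hcon
      push Not at hcon
      exact hone (Finset.eq_singleton_iff_unique_mem.2 ⟨hx, hcon⟩)
    obtain ⟨g, hg, hne, -⟩ := c.exists_noncentral (H.mul_mem (H.inv_mem (ht x hx)) (ht y hy))
      (fun hm => hxy (hdis x hx y hy hm).symm)
    have haU : ∀ w ∈ t, ⁅g, w⁆ ∈ zpowers z := fun w hw => c.comm g hg w (ht w hw)
    have hcz : ∀ w ∈ t, ∀ k ∈ H, Commute k ⁅g, w⁆ := fun w hw k hk =>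
      c.central _ (c.z_le (haU w hw)) k hk
    set F : M → (V →+ V) := fun w => (f w).comp
      (DistribSMul.toAddMonoidHom V ⁅g, w⁆ - DistribSMul.toAddMonoidHom V ⁅g, x⁆) with hF
    set t' := t.filter fun w => ⁅g, w⁆ ≠ ⁅g, x⁆ with ht'
    have hsub : t' ⊂ t := Finset.filter_ssubset.2 ⟨x, hx, by simp⟩
    have hy' : y ∈ t' := by
      rw [ht', Finset.mem_filter]
      refine ⟨hy, fun he => hne ?_⟩
      rw [commutatorElement_eq_one_iff_mul_comm]
      have h1 : g * x * g⁻¹ = ⁅g, x⁆ * x := by rw [commutatorElement_def]; group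
      have h2 : g * y * g⁻¹ = ⁅g, x⁆ * y := by rw [← he, commutatorElement_def]; group
      have h3 : g * (x⁻¹ * y) * g⁻¹ = x⁻¹ * y := by
        calc g * (x⁻¹ * y) * g⁻¹ = (g * x * g⁻¹)⁻¹ * (g * y * g⁻¹) := by group
          _ = x⁻¹ * y := by rw [h1, h2]; group
      calc g * (x⁻¹ * y) = g * (x⁻¹ * y) * g⁻¹ * g := by group
        _ = x⁻¹ * y * g := by rw [h3]
    refine absurd hy' ?_
    rw [ih t' hsub (fun w hw => ht w (Finset.mem_filter.1 hw).1)
      (fun a ha b hb => hdis a (Finset.mem_filter.1 ha).1 b (Finset.mem_filter.1 hb).1) F ?_ ?_ ?_]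
    · exact Finset.notMem_empty y
    · intro w hw a b hab
      rw [ht', Finset.mem_filter] at hw
      have h1 := hinj w hw.1 (show f w (⁅g, w⁆ • a - ⁅g, x⁆ • a) = f w (⁅g, w⁆ • b - ⁅g, x⁆ • b) from hab)
      rw [sub_eq_sub_iff_sub_eq_sub, ← smul_sub, ← smul_sub] at h1
      refine sub_eq_zero.1 (c.z_free h hirr
        ((zpowers z).mul_mem ((zpowers z).inv_mem (haU x hx)) (haU w hw.1))
        (fun he => hw.2 (inv_mul_eq_one.1 he).symm) ?_)
      rw [mul_smul, h1, inv_smul_smul]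
    · intro w hw k hk v
      have hw' := (Finset.mem_filter.1 hw).1
      show f w (⁅g, w⁆ • k • v - ⁅g, x⁆ • k • v) = k • f w (⁅g, w⁆ • v - ⁅g, x⁆ • v)
      rw [← hcom w hw' k hk, smul_sub, smul_smul, smul_smul, smul_smul, smul_smul,
        (hcz w hw' k hk).eq, (hcz x hx k hk).eq]
    · intro v
      rw [ht', Finset.sum_filter_of_ne]
      · show ∑ w ∈ t, f w (⁅g, w⁆ • w • v - ⁅g, x⁆ • w • v) = 0
        simp only [map_sub, Finset.sum_sub_distrib]
        have hA : ∑ w ∈ t, f w (⁅g, w⁆ • w • v) = 0 := by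
          rw [Finset.sum_congr rfl (g := fun w => g • f w (w • g⁻¹ • v)) fun w hw => by
            rw [← hcom w hw g hg, smul_smul, smul_smul, smul_smul, commutatorElement_def]
            congr 2; group]
          rw [← Finset.smul_sum, hsum, smul_zero]
        have hB : ∑ w ∈ t, f w (⁅g, x⁆ • w • v) = 0 := by
          rw [Finset.sum_congr rfl (g := fun w => ⁅g, x⁆ • f w (w • v)) fun w hw =>
            hcom w hw _ (c.UH (c.z_le (haU x hx))) _, ← Finset.smul_sum, hsum, smul_zero]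
        rw [hA, hB, sub_zero]
      · intro w hw hne0 he
        exact hne0 (by simp [hF, he])

theorem relIndex_le_aux [Fact p.Prime] [Module (ZMod p) V] :
    U.relIndex H ≤ Nat.log 2 (Nat.card V) ^ 2 := by
  classical
  have := Fintype.ofFinite (H ⧸ U.subgroupOf H)
  let φ : H ⧸ U.subgroupOf H → (V →ₗ[ZMod p] V) := fun q =>
    (DistribSMul.toAddMonoidHom V ((q.out : H) : M)).toZModLinearMap p
  have hrep : ∀ q q' : H ⧸ U.subgroupOf H,
      ((q.out : H) : M)⁻¹ * ((q'.out : H) : M) ∈ U → q = q' := by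
    intro q q' hm
    rw [← q.out_eq', ← q'.out_eq', QuotientGroup.eq, mem_subgroupOf]
    exact hm
  have hli : LinearIndependent (ZMod p) φ := by
    rw [Fintype.linearIndependent_iff]
    intro a ha
    by_contra hcon
    push Not at hcon
    obtain ⟨q0, hq0⟩ := hcon
    set T := Finset.univ.filter fun q => a q ≠ 0
    set r : H ⧸ U.subgroupOf H → M := fun q => ((q.out : H) : M)
    have hr : Function.Injective r := fun q q' he => hrep q q' (by
      show (r q)⁻¹ * r q' ∈ U
      rw [he, inv_mul_cancel]; exact U.one_mem)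
    let f : M → (V →+ V) := fun x =>
      if hx : x ∈ T.image r then
        DistribSMul.toAddMonoidHom V (a (Finset.mem_image.1 hx).choose) else 0
    have hf : ∀ q ∈ T, ∀ v, f (r q) v = a q • v := by
      intro q hq v
      have hx : r q ∈ T.image r := Finset.mem_image_of_mem r hq
      simp only [f, dif_pos hx, DistribSMul.toAddMonoidHom_apply]
      rw [hr (Finset.mem_image.1 hx).choose_spec.2]
    have hemp := c.coeff_eq_empty h hirr (T.image r) ?_ ?_ f ?_ ?_ ?_
    · have hq : r q0 ∈ T.image r :=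
        Finset.mem_image_of_mem r (Finset.mem_filter.2 ⟨Finset.mem_univ _, hq0⟩)
      rw [hemp] at hq
      exact Finset.notMem_empty _ hq
    · intro x hx
      obtain ⟨q, -, rfl⟩ := Finset.mem_image.1 hx
      exact (q.out).2
    · intro x hx y hy hxy
      obtain ⟨q, -, rfl⟩ := Finset.mem_image.1 hx
      obtain ⟨q', -, rfl⟩ := Finset.mem_image.1 hy
      rw [hrep q q' hxy]
    · intro x hx
      obtain ⟨q, hq, rfl⟩ := Finset.mem_image.1 hx
      intro v w hvw
      rw [hf q hq, hf q hq] at hvw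
      exact smul_right_injective V (Finset.mem_filter.1 hq).2 hvw
    · intro x hx g _ v
      obtain ⟨q, hq, rfl⟩ := Finset.mem_image.1 hx
      rw [hf q hq, hf q hq]
      exact ((DistribSMul.toAddMonoidHom V g).toZModLinearMap p).map_smul (a q) v |>.symm
    · intro v
      rw [Finset.sum_image (hr.injOn), Finset.sum_congr rfl fun q hq => hf q hq _]
      have h1 := LinearMap.congr_fun ha v
      rw [LinearMap.sum_apply, LinearMap.zero_apply] at h1
      rw [show T = Finset.univ.filter (fun q => a q ≠ 0) from rfl,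
        Finset.sum_filter_of_ne fun q _ hne => left_ne_zero_of_smul hne]
      exact h1
  have h1 := hli.fintype_card_le_finrank
  rw [Module.finrank_linearMap, ← Nat.card_eq_fintype_card] at h1
  have hd : Module.finrank (ZMod p) V ≤ Nat.log 2 (Nat.card V) := by
    refine Nat.le_log_of_pow_le Nat.one_lt_two ?_
    rw [Module.natCard_eq_pow_finrank (K := ZMod p) (V := V), Nat.card_zmod]
    exact Nat.pow_le_pow_left h.prime.two_le _
  calc U.relIndex H = Nat.card (H ⧸ U.subgroupOf H) := rfl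
    _ ≤ _ := h1
    _ ≤ Nat.log 2 (Nat.card V) * Nat.log 2 (Nat.card V) := Nat.mul_le_mul hd hd
    _ = _ := (sq _).symm

/-- The bound `|H : U| ≤ (log n)²`. -/
theorem relIndex_le : U.relIndex H ≤ Nat.log 2 (Nat.card V) ^ 2 := by
  have := Fact.mk h.prime
  let _ : Module (ZMod p) V := AddCommGroup.zmodModule h.exp
  exact c.relIndex_le_aux h hirr

end SympCtx

end CfsgLib.DerangeIndex
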